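import Cfsg.Agent.H994.KE.Base_m3
import Cfsg.Agent.H682.KB.KMain_m3
import Cfsg.Agent.H657.PRational
import Cfsg.Agent.H634.Cols
import Cfsg.Agent.H443.XC.Defs
import Cfsg.Agent.H649.Transport
import Cfsg.Agent.FastGrp
import Cfsg.Agent.Prune
set_option linter.all false

section
prune_inst 0x7f00000000000000000000000000000000000000000000000000000000000000000000000000000000000000000000000000000000000000000000000000000000000000000000000000000000000000003fffffffffffffffffffffffffffbeffbdffffffff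

-- part: H208/XR/Frame
section
set_option linter.all false
open scoped Cfsg.Agent.FastGrp

/-!
# The torus model modulo `N = p ^ a` (S4791, S4927; helper208)

The setting of `H440.TD4.Model` (`σ` a frame automorphism of Frobenius type of `D.group k`, `f : G →* D.group k` injective, onto
the fixed points of `σ`), with the elements of order dividing `N = p ^ a` instead of `p`, `p` prime to `|W|`.

`ModelN hp N Q g w X` :
* `add`, `inj`, `act` as in `Model`;
* `fus` : SIMULTANEOUS fusion: if `h` conjugates the family `X (c i)` to the family `X (c' i)` then one element `w'` of the Weyl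
  group satisfies `c' i ∘ w' = c i` for all `i`;
* `reg` : if no root vanishes on `c` then only the trivial element of the Weyl group fixes `c`;
* `cen` : if all roots which vanish on `c'` vanish on `c` then the elements which commute with `X c'` commute with `X c`;
* `tw` : `g` normalises the Weyl group.

`card_normalizer_le`, `le_reg` : `P = {X c}`: `|N(P)| ≤ |C(P)| n` if at most `n` elements of the Weyl group commute with
`θ = rep w ∘ g`; the elements `X c` with `c` regular (no root vanishes on `c`) satisfy `C_N(X c) ≤ C(P)`; `height_hyp` is the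
hypothesis of `H603.AP.x0_eq_kJ_of_reg`.
-/

set_option autoImplicit false
set_option linter.unusedSectionVars false

namespace Cfsg.Agent.H208.XR

open CoxeterSystem Cfsg Cfsg.Lie Cfsg.Lie.ChevalleyDatum
open Cfsg.Agent.ChevalleyStructure Cfsg.Agent.ChevalleyStructure.Elts Cfsg.Agent.ChevalleyStructure.CoxeterGeom
  Cfsg.Agent.ChevalleyStructure.CoxeterGeomTypes Cfsg.Agent.ChevalleyStructure.NPerm
open Cfsg.Agent.Tits.Roots Cfsg.Agent.Tits.Core Cfsg.Agent.Nodes Cfsg.Agent.Nodes.Reps Cfsg.Agent.Nodes.BNOf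
  Cfsg.Agent.Nodes.RGDChev Cfsg.Agent.Nodes.Bruhat
open Cfsg.Agent.KFacts.RgdField Cfsg.Agent.KFacts.RgdChevCoord Cfsg.Agent.BpExc.TorCent Cfsg.Agent.BpExc.TorChev
open Cfsg.Agent.GpExc.Field Cfsg.Agent.BpExc.Tow Cfsg.Agent.BpExc.TowChev Cfsg.Agent.BpExc.Fr
  Cfsg.Agent.BpExc.LangFr Cfsg.Agent.H795.SetCent Cfsg.Agent.H795.Toral Cfsg.Agent.H795.Core
  Cfsg.Agent.H795.RootConn Cfsg.Agent.H795.SetTor Cfsg.Agent.H129.TorusChar Cfsg.Agent.H129.TorusUntw
  Cfsg.Agent.H129.WData Cfsg.Agent.H795.Reduce Cfsg.Agent.H795.LangT Cfsg.Agent.H123.ExcZ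
  Cfsg.Agent.BpExc Cfsg.Agent.H210.EL Cfsg.Agent.H352.KE Cfsg.Agent.H440.TD4

universe u v

variable {D : ChevalleyDatum} {l : ℕ} {M : CoxeterMatrix (Fin l)} (hp : IsType D l M)

/-- The model of the elements of a torus of order dividing `N`. -/
structure ModelN (hp : IsType D l M) (N Q : ℕ) (g : (Fin l → ℤ) ≃+ (Fin l → ℤ)) (w : M.Group) {G : Type v} [Group G]
    (X : (Fin l → ZMod N) → G) : Prop where
  add : ∀ c ∈ Lam hp N Q g w, ∀ c' ∈ Lam hp N Q g w, X (c + c') = X c * X c'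
  inj : ∀ c ∈ Lam hp N Q g w, X c = 1 → c = 0
  act : ∀ v : M.Group, (∀ x, rep M.toCoxeterSystem hp.isCartan v (rep M.toCoxeterSystem hp.isCartan w (g x)) =
      rep M.toCoxeterSystem hp.isCartan w (g (rep M.toCoxeterSystem hp.isCartan v x))) →
    ∃ m : G, ∀ c ∈ Lam hp N Q g w, ∀ c' ∈ Lam hp N Q g w,
      (∀ x, lam c' (rep M.toCoxeterSystem hp.isCartan v x) = lam c x) → m * X c * m⁻¹ = X c'
  fus : ∀ {ι : Type} [Finite ι] (c c' : ι → Fin l → ZMod N), (∀ i, c i ∈ Lam hp N Q g w) →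
    (∀ i, c' i ∈ Lam hp N Q g w) → ∀ h : G, (∀ i, h * X (c i) * h⁻¹ = X (c' i)) →
    ∃ w' : M.Group, ∀ i x, lam (c' i) (rep M.toCoxeterSystem hp.isCartan w' x) = lam (c i) x
  reg : ∀ (w' : M.Group) (c : Fin l → ZMod N), (∀ s : Fin D.nroots, lam c (vec D l s) ≠ 0) →
    (∀ x, lam c (rep M.toCoxeterSystem hp.isCartan w' x) = lam c x) → w' = 1
  cen : ∀ c ∈ Lam hp N Q g w, ∀ c' ∈ Lam hp N Q g w,
    (∀ s : Fin D.nroots, lam c' (vec D l s) = 0 → lam c (vec D l s) = 0) →
    ∀ h : G, h * X c' = X c' * h → h * X c = X c * h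
  tw : ∀ v : M.Group, ∃ v' : M.Group, ∀ x, rep M.toCoxeterSystem hp.isCartan v' (g x) =
    g (rep M.toCoxeterSystem hp.isCartan v x)

section

variable {k : Type u} [Field k] [IsAlgClosed k] {r e : ℕ} [hr : Fact r.Prime] [CharP k r] (hk : LocFin k)
  {σ : MulAut ↥(D.group k)} {g : (Fin l → ℤ) ≃+ (Fin l → ℤ)}

include hp hr hk in
/-- families of elements of the torus which are conjugate in `D.group k` are conjugate under the Weyl group -/
theorem exists_weyl_family {ι : Type} [Finite ι] {s t : ι → ↥(D.group k)} {c : ↥(D.group k)}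
    (hs : ∀ i, s i ∈ TT D k) (ht : ∀ i, t i ∈ TT D k) (hc : ∀ i, c * s i = t i * c) :
    ∃ w : M.Group, ∀ i x, cX hp (t i) (rep M.toCoxeterSystem hp.isCartan w x) = cX hp (s i) x := by
  have hWf := finite_W hp (M.toCoxeterSystem)
  have H := tow hp M.toCoxeterSystem hk r
  have C : Coords M.toCoxeterSystem hp.isCartan (TL (Tj hp (k := k))) (nc hp k) (XL (Xj hp)) (xc hp) (ch hp) := by
    rw [TL_eq hp hk, XL_eq hp hk]
    exact coordsL hp M.toCoxeterSystem hk r
  have hGt := GG_eq_top hp M.toCoxeterSystem hk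
  have hTL := TL_eq (k := k) hp hk
  obtain ⟨m, hm, w, n, hn, hns, -⟩ := exists_form' H C (ι := ι) (s := s) (t := t)
    (fun i => by rw [hTL]; exact hs i) (fun i => by rw [hTL]; exact ht i) (c := c)
    (by rw [hGt]; exact Subgroup.mem_top _) hc
  refine ⟨w, fun i x => ?_⟩
  rw [← cX_rp' hp hk hn (hs i) x, hns i, mul_inv_cancel_right]

include hp in
theorem TT_comm {s t : ↥(D.group k)} (hs : s ∈ TT D k) (ht : t ∈ TT D k) : s * t = t * s := by
  refine cX_inj hp (mul_mem hs ht) (mul_mem ht hs) fun i => ?_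
  rw [cX_mul hp hs ht, cX_mul hp ht hs, mul_comm]

include hr hk in
/-- an element of the Weyl group fixing the characters of one `p`-element on which no root is trivial -/
theorem eq_one_of_reg {p : ℕ} (hpp : p.Prime) (hW : ¬ p ∣ Nat.card M.Group) {t : ↥(D.group k)} (ht : t ∈ TT D k)
    (htp : ∃ m : ℕ, t ^ p ^ m = 1) (hroot : ∀ s : Fin D.nroots, cX hp t (vec D l s) ≠ 1) {w : M.Group}
    (hw : ∀ x, cX hp t (rep M.toCoxeterSystem hp.isCartan w x) = cX hp t x) : w = 1 := by
  have hWf := finite_W hp (M.toCoxeterSystem)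
  have H := tow (k := k) hp M.toCoxeterSystem hk r
  have hTL := TL_eq (k := k) hp hk
  have hXL := XL_eq (k := k) hp hk
  have C : Coords M.toCoxeterSystem hp.isCartan (TL (Tj hp (k := k))) (nc hp k) (XL (Xj hp)) (xc hp) (ch hp) := by
    rw [TL_eq hp hk, XL_eq hp hk]
    exact coordsL hp M.toCoxeterSystem hk r
  have hA : ChAdd M.toCoxeterSystem hp.isCartan (TL (Tj hp (k := k))) (ch (K := k) hp) := by
    rw [hTL]; exact chAddL (k := k) hp M.toCoxeterSystem hk r
  have hZ : ({t} : Set ↥(D.group k)) ⊆ TL (Tj hp (k := k)) := by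
    rw [hTL]
    exact Set.singleton_subset_iff.2 ht
  have hZp : ∀ t' ∈ ({t} : Set ↥(D.group k)), ∃ m : ℕ, t' ^ p ^ m = 1 := by
    intro t' ht'
    rw [Set.mem_singleton_iff.1 ht']
    exact htp
  have hwC : w ∈ CW M.toCoxeterSystem hp.isCartan (ch hp) ({t} : Set ↥(D.group k)) := by
    intro a ha t' ht'
    rw [Set.mem_singleton_iff.1 ht', ← cX_root hp M.toCoxeterSystem ht (ha.act w), ← cX_root hp M.toCoxeterSystem ht ha]
    exact hw a
  by_contra hne
  obtain ⟨q, hq, hqd⟩ := Nat.exists_prime_and_dvd (fun h => hne (orderOf_eq_one_iff.1 h) : orderOf w ≠ 1)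
  have h2 : orderOf (w ^ (orderOf w / q)) = q := by
    rw [orderOf_pow_of_dvd (Nat.div_pos (Nat.le_of_dvd (orderOf_pos w) hqd) hq.pos).ne' (Nat.div_dvd_of_dvd hqd),
      Nat.div_div_self hqd (orderOf_pos w).ne']
  have h3 : q = p := prime_of_PPZ C hA hZ hpp hZp (pow_mem hwC _) (by
    rintro a ⟨ha, ha1⟩ -
    exfalso
    obtain ⟨s, hs, rfl⟩ := (isRoot_iff hp M.toCoxeterSystem a).1 ha
    refine hroot ⟨s, hs⟩ ?_
    rw [cX_root hp M.toCoxeterSystem ht ha]
    exact ha1 t rfl) hq h2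
  exact hW (h3 ▸ hqd.trans (orderOf_dvd_natCard w))

include hr hk in
/-- centralisers of `p`-elements of the torus, compared by the roots which are trivial on them -/
theorem comm_of_roots {p : ℕ} (hpp : p.Prime) (hW : ¬ p ∣ Nat.card M.Group) {t t' : ↥(D.group k)} (ht : t ∈ TT D k)
    (ht' : t' ∈ TT D k) (htp : ∃ m : ℕ, t' ^ p ^ m = 1)
    (hroot : ∀ s : Fin D.nroots, cX hp t' (vec D l s) = 1 → cX hp t (vec D l s) = 1) {c : ↥(D.group k)}
    (hc : c * t' = t' * c) : c * t = t * c := by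
  have hWf := finite_W hp (M.toCoxeterSystem)
  have H := tow (k := k) hp M.toCoxeterSystem hk r
  have hTL := TL_eq (k := k) hp hk
  have hXL := XL_eq (k := k) hp hk
  have C : Coords M.toCoxeterSystem hp.isCartan (TL (Tj hp (k := k))) (nc hp k) (XL (Xj hp)) (xc hp) (ch hp) := by
    rw [TL_eq hp hk, XL_eq hp hk]
    exact coordsL hp M.toCoxeterSystem hk r
  have hA : ChAdd M.toCoxeterSystem hp.isCartan (TL (Tj hp (k := k))) (ch (K := k) hp) := by
    rw [hTL]; exact chAddL (k := k) hp M.toCoxeterSystem hk r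
  have hG := GG_eq_top (k := k) hp M.toCoxeterSystem hk
  have hsub : ∀ {t : ↥(D.group k)}, t ∈ TT D k → ({t} : Set ↥(D.group k)) ⊆ TL (Tj hp (k := k)) := by
    intro t ht
    rw [hTL]
    exact Set.singleton_subset_iff.2 ht
  have hW2 : ¬ p ^ 2 ∣ Nat.card M.Group := fun h => hW (dvd_trans (dvd_pow_self p two_ne_zero) h)
  obtain ⟨m, hm, t0, ht0, rfl⟩ := exists_form_MMT H C hG hA (Z := {t'}) (Set.finite_singleton t') (hsub ht') hpp
    (fun z hz => by rw [Set.mem_singleton_iff.1 hz]; exact htp) hW2 (tors_of_not_dvd hW) (c := c)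
    (fun z hz => by rw [Set.mem_singleton_iff.1 hz]; exact hc)
  have h1 : m ∈ Subgroup.centralizer ({t} : Set ↥(D.group k)) := by
    refine MMZ_le_centralizer C (hsub ht) (RGD.Sup_mono ?_ hm)
    rintro a ⟨ha, ha1⟩
    refine ⟨ha, fun z hz => ?_⟩
    rw [Set.mem_singleton_iff.1 hz]
    obtain ⟨s, hs, rfl⟩ := (isRoot_iff hp M.toCoxeterSystem a).1 ha
    rw [← cX_root hp M.toCoxeterSystem ht ha]
    refine hroot ⟨s, hs⟩ ?_
    rw [cX_root hp M.toCoxeterSystem ht' ha]
    exact ha1 t' rfl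
  have h2 := Subgroup.mem_centralizer_singleton_iff.1 h1
  rw [hTL] at ht0
  rw [mul_assoc, TT_comm hp ht0 ht, ← mul_assoc, h2, mul_assoc]

include hr hk in
/-- a frame automorphism normalises the Weyl group -/
theorem exists_tw {d : ℕ} {B : Fin l → Fin l → ℤ} (hB : InvC D l d B) (hd : d ≠ 0) (hσ : IsFrob r e σ)
    (F : Fr M.toCoxeterSystem hp.isCartan (TT D k) (XX D l k) σ g) (v : M.Group) : ∃ v' : M.Group,
    ∀ x, rep M.toCoxeterSystem hp.isCartan v' (g x) = g (rep M.toCoxeterSystem hp.isCartan v x) := by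
  obtain ⟨n, hn⟩ := exists_rp M.toCoxeterSystem (tow hp M.toCoxeterSystem hk r).nsys v
  have hnT : ∀ t ∈ TT D k, n * t * n⁻¹ ∈ TT D k := fun t ht => rp_conj_mem hp hk hn ht
  have hσT : ∀ s, σ s ∈ TT D k ↔ s ∈ TT D k := F.tor
  obtain ⟨w, hw⟩ := exists_rp_of_normalizes hp hk (r := r) (c := σ n) (fun t ht => by
    have h1 : σ⁻¹ t ∈ TT D k := by rw [← hσT, MulAut.apply_inv_self]; exact ht
    have h2 := (hσT _).2 (hnT _ h1)
    rwa [map_mul, map_mul, map_inv, MulAut.apply_inv_self] at h2)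
  refine ⟨w, fun x => ?_⟩
  refine cX_sep hp (k := k) hB hd fun t' ht' => ?_
  obtain ⟨t, ht, rfl⟩ : ∃ t ∈ TT D k, t' = σ (n * t * n⁻¹) := by
    have h1 : σ⁻¹ t' ∈ TT D k := by rw [← hσT, MulAut.apply_inv_self]; exact ht'
    refine ⟨n⁻¹ * σ⁻¹ t' * n, ?_, ?_⟩
    · have h2 := rp_conj_mem hp hk hn.inv h1
      rwa [inv_inv] at h2
    · have h2 : n * (n⁻¹ * σ⁻¹ t' * n) * n⁻¹ = σ⁻¹ t' := by group
      rw [h2, MulAut.apply_inv_self]
  have h1 : cX hp (σ (n * t * n⁻¹)) (g (rep M.toCoxeterSystem hp.isCartan v x)) = cX hp t x ^ r ^ e := by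
    rw [cX_sigma hp M.toCoxeterSystem hσ F (hnT t ht), cX_rp' hp hk hn ht]
  have h2 : cX hp (σ (n * t * n⁻¹)) (rep M.toCoxeterSystem hp.isCartan w (g x)) = cX hp t x ^ r ^ e := by
    rw [map_mul, map_mul, map_inv, cX_rp' hp hk hw ((hσT t).2 ht), cX_sigma hp M.toCoxeterSystem hσ F ht]
  rw [h1, h2]

include hk in
/-- **The torus model modulo `N = p ^ a`.** -/
theorem exists_modelN {p a : ℕ} [hpp : Fact p.Prime] (hpr : p ≠ r) (hW : ¬ p ∣ Nat.card M.Group) {d : ℕ}
    {B : Fin l → Fin l → ℤ} (hB : InvC D l d B)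
    (hd : d ≠ 0) (he : 0 < e) (hσ : IsFrob r e σ)
    (F0 : Fr M.toCoxeterSystem hp.isCartan (TT D k) (XX D l k) σ g) {G : Type v} [Group G] {f : G →* ↥(D.group k)}
    (hinj : Function.Injective f) (hrange : ∀ y, σ y = y → ∃ x, f x = y) (w : M.Group) :
    ∃ X : (Fin l → ZMod (p ^ a)) → G, ModelN hp (p ^ a) (r ^ e) g w X := by
  classical
  have hp1 : p.Prime := hpp.out
  have hNz : NeZero (p ^ a) := ⟨pow_ne_zero _ hp1.ne_zero⟩
  -- the root of unity
  have hpk' : (p : k) ≠ 0 := by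
    intro h
    have h1 := (CharP.cast_eq_zero_iff k r p).1 h
    exact hpr.symm ((Nat.prime_dvd_prime_iff_eq hr.out hp1).1 h1)
  have hpk : ((p ^ a : ℕ) : k) ≠ 0 := by
    rw [Nat.cast_pow]
    exact pow_ne_zero _ hpk'
  have : NeZero ((p ^ a : ℕ) : k) := ⟨hpk⟩
  obtain ⟨ζ, hζ⟩ := HasEnoughRootsOfUnity.exists_primitiveRoot k (p ^ a)
  have hζp : ζ ^ (p ^ a) = 1 := hζ.pow_eq_one
  have hζinj : ∀ x y : ZMod (p ^ a), ζ ^ x.val = ζ ^ y.val → x = y := fun x y h => pow_val_inj hζ h
  -- the torus elements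
  have hex : ∀ c : Fin l → ZMod (p ^ a), ∃ t ∈ TT D k, ∀ x, cX hp t x = chm ζ c x := fun c =>
    exists_cX hp (k := k) hB hd (isMC_chm hζp c) (fun i => IsAlgClosed.exists_pow_nat_eq _ (Nat.pos_of_ne_zero hd))
  choose t ht hX using hex
  have ht_add : ∀ c c', t (c + c') = t c * t c' := by
    intro c c'
    refine cX_inj hp (ht _) (mul_mem (ht _) (ht _)) fun i => ?_
    rw [cX_mul hp (ht _) (ht _), hX, hX, hX]
    unfold chm
    rw [lam_add_left, pow_val_add' hζp]
  have ht_pow : ∀ c, t c ^ (p ^ a) = 1 := by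
    intro c
    refine cX_inj hp (pow_mem (ht c) _) (one_mem _) fun i => ?_
    rw [cX_pow hp (ht c), cX_one, hX]
    unfold chm
    rw [← pow_mul, mul_comm, pow_mul, hζp, one_pow]
  have ht_eq : ∀ c c' : Fin l → ZMod (p ^ a), (∀ x, lam c x = lam c' x) → c = c' := by
    intro c c' h
    funext i
    have := h (sr i)
    rwa [lam_sr, lam_sr] at this
  have hroot : ∀ (c : Fin l → ZMod (p ^ a)) (x : Fin l → ℤ), cX hp (t c) x = 1 ↔ lam c x = 0 := by
    intro c x
    rw [hX]
    unfold chm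
    constructor
    · intro h
      exact hζinj _ _ (by rw [h, ZMod.val_zero, pow_zero])
    · intro h
      rw [h, ZMod.val_zero, pow_zero]
  -- the frame automorphism
  have H := tow hp M.toCoxeterSystem hk r
  obtain ⟨nw, hnw⟩ := exists_rp M.toCoxeterSystem H.nsys w
  obtain ⟨u, hu⟩ := lang_all hp M.toCoxeterSystem he hσ F0 1 nw
  have hu' : nw = u⁻¹ * σ u := by
    rw [map_one, one_mul] at hu
    exact hu
  have Fr1 : Fr M.toCoxeterSystem hp.isCartan (TT D k) (XX D l k) (ct σ u)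
      (g.trans (repAut M.toCoxeterSystem hp.isCartan w)) := by
    have h1 := Fr.conj H (by rw [hu'] at hnw; exact hnw : Rp M.toCoxeterSystem H.nsys w (u⁻¹ * σ u))
    rw [TL_eq hp hk, XL_eq hp hk] at h1
    exact h1.mul F0
  have hσ1 : IsFrob r e (ct σ u) := hσ.conj_mul _
  have hg1 : ∀ x, (g.trans (repAut M.toCoxeterSystem hp.isCartan w)) x =
      rep M.toCoxeterSystem hp.isCartan w (g x) := fun x => rfl
  -- fixed
  have hfixt : ∀ c ∈ Lam hp (p ^ a) (r ^ e) g w, ct σ u (t c) = t c := by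
    intro c hcw
    refine cX_inj hp ((Fr1.tor (t c)).2 (ht c)) (ht c) fun i => ?_
    obtain ⟨y, hy⟩ := (g.trans (repAut M.toCoxeterSystem hp.isCartan w)).surjective (sr i)
    rw [← hy, cX_sigma hp M.toCoxeterSystem hσ1 Fr1 (ht c), hX, hX, hg1]
    unfold chm
    rw [hcw y, pow_val_cast' hζp]
  -- back in the finite group
  have hback : ∀ {t : ↥(D.group k)}, ct σ u t = t → ∃ x : G, f x = u * t * u⁻¹ := by
    intro t ht
    exact hrange _ (ct_fix.1 ht)
  have hexX : ∀ c : Fin l → ZMod (p ^ a), ∃ x : G, c ∈ Lam hp (p ^ a) (r ^ e) g w → f x = u * t c * u⁻¹ := by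
    intro c
    by_cases hc : c ∈ Lam hp (p ^ a) (r ^ e) g w
    · obtain ⟨x, hx⟩ := hback (hfixt c hc)
      exact ⟨x, fun _ => hx⟩
    · exact ⟨1, fun h => absurd h hc⟩
  choose X hXf using hexX
  refine ⟨X, ?_, ?_, ?_, ?_, ?_, ?_, exists_tw hp (r := r) hk hB hd hσ F0⟩
  · intro c hc c' hc'
    apply hinj
    rw [map_mul, hXf _ (Lam.add hp hc hc'), hXf _ hc, hXf _ hc', ht_add]
    group
  · intro c hc h1
    have h2 := hXf _ hc
    rw [h1, map_one] at h2
    have h3 : t c = 1 := by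
      have h4 : u * t c * u⁻¹ = 1 := h2.symm
      rwa [conj_eq_one_iff] at h4
    refine ht_eq _ _ fun x => ?_
    have h4 := hroot c x
    rw [h3, cX_one] at h4
    rw [show lam (0 : Fin l → ZMod (p ^ a)) x = 0 by unfold lam; simp]
    exact h4.1 rfl
  · intro v hv
    obtain ⟨m, hm, hmf⟩ := exists_fixed_lift hp hk hB hd he hσ1 Fr1 hv
    obtain ⟨n, hn⟩ := hback hmf
    refine ⟨n, fun c hc c' hc' hcc => ?_⟩
    apply hinj
    rw [map_mul, map_mul, map_inv, hXf _ hc, hXf _ hc', hn]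
    have h1 : m * t c * m⁻¹ = t c' := by
      refine cX_inj hp (rp_conj_mem hp hk hm (ht c)) (ht c') fun i => ?_
      obtain ⟨y', hy'⟩ := (repAut M.toCoxeterSystem hp.isCartan v).surjective (sr i)
      have hy : rep M.toCoxeterSystem hp.isCartan v y' = sr i := hy'
      rw [← hy, cX_rp' hp hk hm (ht c), hX, hX]
      unfold chm
      rw [hcc]
    calc u * m * u⁻¹ * (u * t c * u⁻¹) * (u * m * u⁻¹)⁻¹ = u * (m * t c * m⁻¹) * u⁻¹ := by group
      _ = u * t c' * u⁻¹ := by rw [h1]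
  · intro ι _ c c' hc hc' h hh
    obtain ⟨w', hw'⟩ := exists_weyl_family (r := r) hp hk (s := fun i => t (c i)) (t := fun i => t (c' i))
      (fun i => ht (c i)) (fun i => ht (c' i)) (c := u⁻¹ * f h * u) (by
      intro i
      have h1 := congrArg f (hh i)
      rw [map_mul, map_mul, map_inv, hXf _ (hc i), hXf _ (hc' i)] at h1
      calc u⁻¹ * f h * u * t (c i) = u⁻¹ * (f h * (u * t (c i) * u⁻¹) * (f h)⁻¹) * f h * u := by group
        _ = u⁻¹ * (u * t (c' i) * u⁻¹) * f h * u := by rw [h1]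
        _ = t (c' i) * (u⁻¹ * f h * u) := by group)
    refine ⟨w', fun i x => hζinj _ _ ?_⟩
    have h2 := hw' i x
    rw [hX, hX] at h2
    exact h2
  · intro w' c hc hw'
    refine eq_one_of_reg hp (r := r) hk hp1 hW (ht c) ⟨a, ht_pow c⟩ (fun s h => hc s ((hroot c _).1 h)) fun x => ?_
    rw [hX, hX]
    unfold chm
    rw [hw']
  · intro c hc c' hc' hr' h hh
    apply hinj
    rw [map_mul, map_mul, hXf _ hc]
    have h1 := congrArg f hh
    rw [map_mul, map_mul, hXf _ hc'] at h1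
    have h2 := comm_of_roots hp (r := r) hk hp1 hW (t := t c) (t' := t c') (ht c) (ht c') ⟨a, ht_pow c'⟩
      (fun s h => (hroot c _).2 (hr' s ((hroot c' _).1 h))) (c := u⁻¹ * f h * u) (by
        calc u⁻¹ * f h * u * t c' = u⁻¹ * (f h * (u * t c' * u⁻¹)) * u := by group
          _ = u⁻¹ * (u * t c' * u⁻¹ * f h) * u := by rw [h1]
          _ = t c' * (u⁻¹ * f h * u) := by group)
    calc f h * (u * t c * u⁻¹) = u * (u⁻¹ * f h * u * t c) * u⁻¹ := by group
      _ = u * (t c * (u⁻¹ * f h * u)) * u⁻¹ := by rw [h2]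
      _ = u * t c * u⁻¹ * f h := by group

end

include hp in
/-- **The torus model of an untwisted group, modulo `p ^ a`** (the root lattice is the weight lattice: `G₂`, `F₄`, `E₈`). -/
theorem exists_modelN_untw {F : Type u} [Field F] [Fintype F] {p a : ℕ} [hpp : Fact p.Prime] (hpF : (p : F) ≠ 0)
    (hW : ¬ p ∣ Nat.card M.Group) {B : Fin l → Fin l → ℤ} (hB : InvC D l 1 B) (w : M.Group) :
    ∃ X : (Fin l → ZMod (p ^ a)) → ↥(D.group F),
      ModelN hp (p ^ a) (Fintype.card F) (AddEquiv.refl (Fin l → ℤ)) w X := by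
  obtain ⟨r, e', hr, hrF, hrk, he', hq, hk⟩ := exists_closure (F := F) rfl
  have hpr : p ≠ r := by
    rintro rfl
    exact hpF (CharP.cast_eq_zero F p)
  let k := AlgebraicClosure F
  let f : F →+* k := algebraMap F (AlgebraicClosure F)
  have hσ : IsFrob r e' (phi D k r e') := isFrob_phi
  have F0 : Fr M.toCoxeterSystem hp.isCartan (TT D k) (XX D l k) (phi D k r e') (AddEquiv.refl (Fin l → ℤ)) :=
    fr_phi hp _
  rw [hq]
  exact exists_modelN (k := k) hp hk hpr hW hB one_ne_zero he' hσ F0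
    (f := emb hp.inList f) (emb_injective hp.inList f)
    (fun y hy => fix_range hp M.toCoxeterSystem f hq hB one_ne_zero (fun a => ⟨a, pow_one a⟩) hy) w

/-! ### consequences -/

section model

variable {hp} {p a Q : ℕ} [hpp : Fact p.Prime] {g : (Fin l → ℤ) ≃+ (Fin l → ℤ)} {w : M.Group} {G : Type v} [Group G]
  {X : (Fin l → ZMod (p ^ a)) → G} (H : ModelN hp (p ^ a) Q g w X)

theorem zero_mem : (0 : Fin l → ZMod (p ^ a)) ∈ Lam hp (p ^ a) Q g w := by
  intro x
  unfold lam
  simp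

include H in
theorem X_zero : X 0 = 1 := by
  have h := H.add 0 zero_mem 0 zero_mem
  rw [add_zero] at h
  exact (mul_eq_left.1 h.symm)

include H in
theorem X_nsmul {c : Fin l → ZMod (p ^ a)} (hc : c ∈ Lam hp (p ^ a) Q g w) (n : ℕ) :
    X ((n : ZMod (p ^ a)) • c) = X c ^ n := by
  induction n with
  | zero => rw [Nat.cast_zero, zero_smul, pow_zero, X_zero H]
  | succ n ih => rw [Nat.cast_succ, add_smul, one_smul, H.add _ (Lam.smul hp _ hc) _ hc, ih, pow_succ]

include H in
theorem X_neg {c : Fin l → ZMod (p ^ a)} (hc : c ∈ Lam hp (p ^ a) Q g w) : X (-c) = (X c)⁻¹ := by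
  have h1 : -c ∈ Lam hp (p ^ a) Q g w := by
    have := Lam.smul hp (-1) hc
    rwa [neg_one_smul] at this
  have h2 := H.add _ h1 _ hc
  rw [neg_add_cancel, X_zero H] at h2
  exact eq_inv_of_mul_eq_one_left h2.symm

include H in
theorem X_inj {c c' : Fin l → ZMod (p ^ a)} (hc : c ∈ Lam hp (p ^ a) Q g w) (hc' : c' ∈ Lam hp (p ^ a) Q g w)
    (h : X c = X c') : c = c' := by
  have h1 : -c' ∈ Lam hp (p ^ a) Q g w := by
    have := Lam.smul hp (-1) hc'
    rwa [neg_one_smul] at this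
  have h2 := H.add _ hc _ h1
  rw [X_neg H hc', h, mul_inv_cancel] at h2
  have h3 := H.inj _ (Lam.add hp hc h1) h2
  rw [← sub_eq_add_neg, sub_eq_zero] at h3
  exact h3

/-- the torus subgroup -/
def toSub (H : ModelN hp (p ^ a) Q g w X) : Subgroup G where
  carrier := {x | ∃ c ∈ Lam hp (p ^ a) Q g w, X c = x}
  one_mem' := ⟨0, zero_mem, X_zero H⟩
  mul_mem' := by
    rintro _ _ ⟨c, hc, rfl⟩ ⟨c', hc', rfl⟩
    exact ⟨c + c', Lam.add hp hc hc', H.add c hc c' hc'⟩
  inv_mem' := by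
    rintro _ ⟨c, hc, rfl⟩
    refine ⟨-c, ?_, X_neg H hc⟩
    have := Lam.smul hp (-1) hc
    rwa [neg_one_smul] at this

theorem card_toSub : Nat.card ↥(toSub H) = Nat.card ↥(Lam hp (p ^ a) Q g w) := by
  refine (Nat.card_congr (Equiv.ofBijective (fun c => (⟨X c.1, c.1, c.2, rfl⟩ : ↥(toSub H))) ⟨?_, ?_⟩)).symm
  · intro c c' h
    exact Subtype.ext (X_inj H c.2 c'.2 (congrArg Subtype.val h))
  · rintro ⟨_, c, hc, rfl⟩
    exact ⟨⟨c, hc⟩, rfl⟩

theorem toSub_comm {x y : G} (hx : x ∈ toSub H) (hy : y ∈ toSub H) : x * y = y * x := by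
  obtain ⟨c, hc, rfl⟩ := hx
  obtain ⟨c', hc', rfl⟩ := hy
  rw [← H.add c hc c' hc', ← H.add c' hc' c hc, add_comm]

/-- **The normaliser of the torus subgroup acts as elements of the Weyl group.** -/
theorem exists_weyl_normalizer {h : G} (hh : h ∈ Subgroup.normalizer (toSub H : Set G)) :
    ∃ w' : M.Group, ∀ c ∈ Lam hp (p ^ a) Q g w, ∃ c' ∈ Lam hp (p ^ a) Q g w, h * X c * h⁻¹ = X c' ∧
      ∀ x, lam c' (rep M.toCoxeterSystem hp.isCartan w' x) = lam c x := by
  have hex : ∀ c : ↥(Lam hp (p ^ a) Q g w), ∃ c' : ↥(Lam hp (p ^ a) Q g w), h * X c.1 * h⁻¹ = X c'.1 := by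
    intro c
    obtain ⟨c', hc', e⟩ := (Subgroup.mem_normalizer_iff.1 hh (X c.1)).1 ⟨c.1, c.2, rfl⟩
    exact ⟨⟨c', hc'⟩, e.symm⟩
  choose c' hc' using hex
  have hNz : NeZero (p ^ a) := ⟨pow_ne_zero _ hpp.out.ne_zero⟩
  obtain ⟨w', hw'⟩ := H.fus (ι := ↥(Lam hp (p ^ a) Q g w)) (fun c => c.1) (fun c => (c' c).1) (fun c => c.2)
    (fun c => (c' c).2) h hc'
  exact ⟨w', fun c hc => ⟨(c' ⟨c, hc⟩).1, (c' ⟨c, hc⟩).2, hc' ⟨c, hc⟩, hw' ⟨c, hc⟩⟩⟩

omit hpp in
/-- the eigenspace is injectively acted on: functionals with the same values are equal -/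
theorem lam_ext {N : ℕ} {c c' : Fin l → ZMod N} (h : ∀ x, lam c x = lam c' x) : c = c' := by
  funext i
  have := h (sr i)
  rwa [lam_sr, lam_sr] at this

/-- the elements of the Weyl group which commute with `θ = rep w ∘ g` -/
def Cth (hp : IsType D l M) (g : (Fin l → ℤ) ≃+ (Fin l → ℤ)) (w : M.Group) : Set M.Group :=
  {v | ∀ x, rep M.toCoxeterSystem hp.isCartan v (rep M.toCoxeterSystem hp.isCartan w (g x)) =
    rep M.toCoxeterSystem hp.isCartan w (g (rep M.toCoxeterSystem hp.isCartan v x))}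

include H in
/-- an element of the Weyl group which maps the eigenspace onto itself commutes with `θ` -/
theorem mem_Cth {c₀ : Fin l → ZMod (p ^ a)} (hc₀ : c₀ ∈ Lam hp (p ^ a) Q g w)
    (hreg : ∀ s : Fin D.nroots, lam c₀ (vec D l s) ≠ 0) {w' : M.Group}
    (hw' : ∃ c ∈ Lam hp (p ^ a) Q g w, ∀ x, lam c₀ (rep M.toCoxeterSystem hp.isCartan w' x) = lam c x) :
    w' ∈ Cth hp g w := by
  obtain ⟨c, hc, h⟩ := hw'
  obtain ⟨v', hv'⟩ := H.tw w'
  -- `u = w' w v'⁻¹ w⁻¹`
  have hu : w' * w * v'⁻¹ * w⁻¹ = 1 := by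
    refine H.reg _ c₀ hreg fun y => ?_
    obtain ⟨z, hz⟩ : ∃ z, z = rep M.toCoxeterSystem hp.isCartan (v'⁻¹ * w⁻¹) y := ⟨_, rfl⟩
    obtain ⟨x, hx⟩ := g.surjective z
    have h1 : y = rep M.toCoxeterSystem hp.isCartan w (g (rep M.toCoxeterSystem hp.isCartan w' x)) := by
      rw [← hv', hx, hz, rep_mul_apply, rep_apply_inv, rep_apply_inv]
    rw [mul_assoc, rep_mul_apply, ← hz, ← hx, rep_mul_apply, h, hc, ← h, h1, hc₀]
  have hu' : w' * w = w * v' := by
    exact mul_inv_eq_iff_eq_mul.1 (mul_inv_eq_one.1 hu)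
  intro x
  rw [← rep_mul_apply, hu', rep_mul_apply, hv']

variable (hp) in
/-- the regular elements of the eigenspace -/
def LamReg (N Q : ℕ) (g : (Fin l → ℤ) ≃+ (Fin l → ℤ)) (w : M.Group) : Set (Fin l → ZMod N) :=
  {c | c ∈ Lam hp N Q g w ∧ ∀ s : Fin D.nroots, lam c (vec D l s) ≠ 0}

/-- **`|N(P)| ≤ |C(P)| n`.** -/
theorem card_normalizer_le [Finite G] (hreg : (LamReg hp (p ^ a) Q g w).Nonempty) {n : ℕ}
    (hn : Nat.card ↥(Cth hp g w) ≤ n) :
    Nat.card ↥(Subgroup.normalizer (toSub H : Set G)) ≤ Nat.card ↥(Subgroup.centralizer (toSub H : Set G)) * n := by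
  classical
  have hWf := finite_W hp M.toCoxeterSystem
  obtain ⟨c₀, hc₀, hr⟩ := hreg
  set N := Subgroup.normalizer (toSub H : Set G) with hN
  set C := Subgroup.centralizer (toSub H : Set G) with hC
  have hCN : C ≤ N := Subgroup.centralizer_le_normalizer _
  choose f hf using fun h : N => exists_weyl_normalizer H h.2
  have hfC : ∀ h, f h ∈ Cth hp g w := by
    intro h
    -- the preimage of `c₀`
    obtain ⟨c, hc, hce⟩ : ∃ c ∈ Lam hp (p ^ a) Q g w, (h : G) * X c * (h : G)⁻¹ = X c₀ := by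
      have h1 := (Subgroup.mem_normalizer_iff.1 (inv_mem h.2) (X c₀)).1 ⟨c₀, hc₀, rfl⟩
      obtain ⟨c, hc, e⟩ := h1
      refine ⟨c, hc, ?_⟩
      rw [e]
      group
    obtain ⟨c', hc', e1, e2⟩ := hf h c hc
    have h2 : c' = c₀ := X_inj H hc' hc₀ (e1.symm.trans hce)
    subst h2
    exact mem_Cth H hc₀ hr ⟨c, hc, e2⟩
  have hinj : ∀ h h' : N, f h = f h' → (h : G)⁻¹ * h' ∈ C := by
    intro h h' hff
    rw [hC, Subgroup.mem_centralizer_iff]
    rintro _ ⟨c, hc, rfl⟩
    obtain ⟨c1, hc1, e1, e2⟩ := hf h c hc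
    obtain ⟨c2, hc2, e3, e4⟩ := hf h' c hc
    have h1 : c1 = c2 := by
      refine lam_ext fun x => ?_
      obtain ⟨y, hy⟩ : ∃ y, rep M.toCoxeterSystem hp.isCartan (f h) y = x :=
        ⟨rep M.toCoxeterSystem hp.isCartan (f h)⁻¹ x, rep_apply_inv _ _ _ _⟩
      rw [← hy, e2]
      rw [hff, e4]
    rw [← h1, ← e1] at e3
    calc X c * ((h : G)⁻¹ * h') = (h : G)⁻¹ * (h * X c * (h : G)⁻¹) * h' := by group
      _ = (h : G)⁻¹ * (h' * X c * (h' : G)⁻¹) * h' := by rw [e3]
      _ = (h : G)⁻¹ * h' * X c := by group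
  -- the quotient
  have hcard : Nat.card (N ⧸ C.subgroupOf N) ≤ Nat.card ↥(Cth hp g w) := by
    refine Nat.card_le_card_of_injective (fun z => (⟨f (Quotient.out z), hfC _⟩ : ↥(Cth hp g w))) ?_
    intro z z' h
    have h1 := hinj _ _ (congrArg Subtype.val h)
    rw [← Quotient.out_eq' z, ← Quotient.out_eq' z']
    refine QuotientGroup.eq.2 ?_
    rw [Subgroup.mem_subgroupOf]
    exact h1
  have h2 := Subgroup.card_mul_index (C.subgroupOf N)
  rw [← h2, Subgroup.index, Nat.card_congr (Subgroup.subgroupOfEquivOfLe hCN).toEquiv]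
  exact Nat.mul_le_mul_left _ (hcard.trans hn)

/-- the regular elements -/
theorem le_reg [Finite G] : Nat.card ↥(LamReg hp (p ^ a) Q g w) ≤
    Nat.card {x : G // x ∈ toSub H ∧ ∀ h ∈ Subgroup.normalizer (toSub H : Set G), h * x = x * h →
      h ∈ Subgroup.centralizer (toSub H : Set G)} := by
  have hex : ∀ c : ↥(LamReg hp (p ^ a) Q g w), X c.1 ∈ toSub H ∧
      ∀ h ∈ Subgroup.normalizer (toSub H : Set G), h * X c.1 = X c.1 * h →
      h ∈ Subgroup.centralizer (toSub H : Set G) := by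
    rintro ⟨c, hc, hr⟩
    refine ⟨⟨c, hc, rfl⟩, fun h hh hcomm => ?_⟩
    obtain ⟨w', hw'⟩ := exists_weyl_normalizer H hh
    obtain ⟨c', hc', e1, e2⟩ := hw' c hc
    have h1 : c' = c := X_inj H hc' hc (e1.symm.trans (by rw [hcomm, mul_inv_cancel_right]))
    subst h1
    have h2 : w' = 1 := H.reg w' c' hr e2
    rw [Subgroup.mem_centralizer_iff]
    rintro _ ⟨d, hd, rfl⟩
    obtain ⟨d', hd', e3, e4⟩ := hw' d hd
    have h3 : d' = d := lam_ext fun x => by
      have := e4 x
      rwa [h2, map_one, Module.End.one_apply] at this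
    rw [h3] at e3
    exact (mul_inv_eq_iff_eq_mul.1 e3).symm
  refine Nat.card_le_card_of_injective (fun c => ⟨X c.1, hex c⟩) ?_
  intro c c' h
  exact Subtype.ext (X_inj H c.2.1 c'.2.1 (congrArg Subtype.val h))

/-- **The hypothesis of the height theorem.** -/
theorem height_hyp [Finite G] (P : Sylow p G) (hP : (P : Subgroup G) = toSub H) {n : ℕ}
    (hn : Nat.card ↥(Cth hp g w) ≤ n)
    (h : n * Nat.card ↥(Lam hp (p ^ a) Q g w) < p ^ 2 * Nat.card ↥(LamReg hp (p ^ a) Q g w)) :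
    Nat.card ↥(Subgroup.normalizer ((P : Subgroup G) : Set G)) * Nat.card P <
      p ^ 2 * Nat.card ↥(Subgroup.centralizer ((P : Subgroup G) : Set G)) *
        Nat.card {x : G // x ∈ (P : Subgroup G) ∧ ∀ g ∈ Subgroup.normalizer ((P : Subgroup G) : Set G), g * x = x * g →
          g ∈ Subgroup.centralizer ((P : Subgroup G) : Set G)} := by
  have hPc : Nat.card P = Nat.card ↥(toSub H) := by
    rw [← hP]
  rw [hPc, hP, card_toSub]
  have hne : (LamReg hp (p ^ a) Q g w).Nonempty := by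
    by_contra hcon
    rw [Set.not_nonempty_iff_eq_empty] at hcon
    rw [hcon, Nat.card_of_isEmpty (α := ↥(∅ : Set (Fin l → ZMod (p ^ a)))), mul_zero] at h
    exact absurd h (Nat.not_lt_zero _)
  have h1 := card_normalizer_le H hne hn
  have h2 := le_reg H
  have hC : 0 < Nat.card ↥(Subgroup.centralizer (toSub H : Set G)) := Nat.card_pos
  calc Nat.card ↥(Subgroup.normalizer (toSub H : Set G)) * Nat.card ↥(Lam hp (p ^ a) Q g w)
      ≤ Nat.card ↥(Subgroup.centralizer (toSub H : Set G)) * n * Nat.card ↥(Lam hp (p ^ a) Q g w) :=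
        Nat.mul_le_mul_right _ h1
    _ = Nat.card ↥(Subgroup.centralizer (toSub H : Set G)) * (n * Nat.card ↥(Lam hp (p ^ a) Q g w)) := by
        rw [mul_assoc]
    _ < Nat.card ↥(Subgroup.centralizer (toSub H : Set G)) * (p ^ 2 * Nat.card ↥(LamReg hp (p ^ a) Q g w)) :=
        Nat.mul_lt_mul_of_pos_left h hC
    _ = p ^ 2 * Nat.card ↥(Subgroup.centralizer (toSub H : Set G)) * Nat.card ↥(LamReg hp (p ^ a) Q g w) := by ring
    _ ≤ _ := Nat.mul_le_mul_left _ h2

/-- the torus subgroup is a Sylow subgroup -/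
theorem exists_sylow [Finite G] {v : ℕ} (hL : p ^ v ≤ Nat.card ↥(Lam hp (p ^ a) Q g w))
    (hG : ¬ p ^ (v + 1) ∣ Nat.card G) :
    Nat.card ↥(Lam hp (p ^ a) Q g w) = p ^ v ∧ ∃ P : Sylow p G, (P : Subgroup G) = toSub H := by
  have hNz : NeZero (p ^ a) := ⟨pow_ne_zero _ hpp.out.ne_zero⟩
  have hpg : IsPGroup p ↥(toSub H) := by
    rintro ⟨x, c, hc, rfl⟩
    refine ⟨a, Subtype.ext ?_⟩
    show X c ^ p ^ a = 1
    rw [← X_nsmul H hc, ZMod.natCast_self, zero_smul, X_zero H]
  obtain ⟨u, hu⟩ := IsPGroup.iff_card.1 hpg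
  rw [← card_toSub H, hu] at hL ⊢
  have h1 : v ≤ u := (Nat.pow_le_pow_iff_right hpp.out.one_lt).1 hL
  have h2 : u ≤ v := by
    by_contra hcon
    exact hG ((pow_dvd_pow p (by omega)).trans (hu ▸ (toSub H).card_subgroup_dvd_card))
  have h3 : u = v := le_antisymm h2 h1
  refine ⟨by rw [h3], ?_⟩
  obtain ⟨P, hP⟩ := hpg.exists_le_sylow
  refine ⟨P, ?_⟩
  symm
  apply Subgroup.eq_of_le_of_card_ge hP
  obtain ⟨u', hu'⟩ := IsPGroup.iff_card.1 P.2
  rw [hu, hu']
  refine Nat.pow_le_pow_right hpp.out.pos ?_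
  by_contra hcon
  exact hG ((pow_dvd_pow p (by omega)).trans (hu' ▸ (P : Subgroup G).card_subgroup_dvd_card))

end model

end Cfsg.Agent.H208.XR
end

-- part: H76/KJ/Basic
section
set_option linter.all false
open scoped Cfsg.Agent.FastGrp

-- part: H76/KJ/Fix
section
/-!
# S4791 + S4927, D1J: fixed points of power maps in a block (after `H657.blockRank_le_fixed`)
-/

set_option autoImplicit false

namespace Cfsg.Agent.H76.KJ

open Cfsg IsLocalRing Module Cfsg.Agent.H608.BlockRank Cfsg.Agent.Blocks.Basic Cfsg.Agent.Blocks.Local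
open Cfsg.Agent.H657

attribute [local instance] Above.isAlgClosed

section main

variable {G : Type*} [Group G] [Finite G] {p : ℕ} {M : Ideal AlgInt}

open Classical in
/-- **Fixed points of the power map**, sections of `p`-elements fixed by the power map. -/
theorem sum_finrank_le_fixed (hM : IsPModular p M) {B : Set (IrrCharacter G)} (hB : IsPBlock M B)
    {κ : ℕ} (hκ : Nat.Coprime κ (Nat.card G))
    (hκ1 : κ ≡ 1 [MOD Nat.card G / p ^ (Nat.card G).factorization p])
    (X₀ : Finset G) (hX₀ : ∀ x ∈ X₀, ∃ k : ℕ, orderOf x = p ^ k) (hcl : ∀ x ∈ X₀, ∀ y ∈ X₀, IsConj x y → x = y)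
    (hfix : ∀ x ∈ X₀, x ^ κ = x) :
    ∑ x ∈ X₀, finrank ℂ ((charSpan B).map (secMap p x (Subgroup.centralizer ({x} : Set G)))) ≤
      Nat.card {χ : IrrCharacter G // χ ∈ B ∧ ∀ g : G, (χ : G → ℂ) (g ^ κ) = (χ : G → ℂ) g} := by
  have hFp : Fact p.Prime := ⟨hM.1⟩
  have hp : p.Prime := hM.1
  have hMp := isPrime_of_isPModular hM
  obtain ⟨V, hV⟩ := exists_above hM
  have : CharP (ResidueField V) p := hV.charP hM
  have := Fintype.ofFinite G
  have := Characters.Core.finite_irr (G := G)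
  have := Fintype.ofFinite (IrrCharacter G)
  obtain ⟨X, hX₀X, hX, hXrep⟩ := H634.Cols.exists_reps (p := p) X₀ hX₀ hcl
  obtain ⟨κ', hκ'⟩ := exists_inverse hκ
  have hBU := isUnion_of_isPBlock hB
  -- the power map preserves the span of `B`
  have hirr : ∀ χ : IrrCharacter G, IsIrrCharacter G (fun g => (χ : G → ℂ) (g ^ κ)) :=
    fun χ => Characters.GaloisIrr.isIrr_pow hκ χ.2
  have hmemB : ∀ χ ∈ B, (⟨_, hirr χ⟩ : IrrCharacter G) ∈ B := by
    intro χ hχ
    refine hBU χ _ ?_ hχ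
    refine Blocks.PRegular.sameBlock_of_isPRegular hM χ.2 (hirr χ) fun g hg => ?_
    have h1 : centralChar (χ : G → ℂ) g - centralChar (fun g => (χ : G → ℂ) (g ^ κ)) g = 0 := by
      rw [centralChar_def, centralChar_def, pow_eq_of_isPRegular hκ1 hg, one_pow, sub_self]
    rw [h1]
    exact memLocalIdeal_zero
  set W := charSpan B with hW
  have hTW : ∀ θ ∈ W, powMap κ θ ∈ W := by
    intro θ hθ
    have hle : W ≤ W.comap (powMap κ) := by
      rw [hW]
      conv_lhs => unfold charSpan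
      rw [Submodule.span_le]
      rintro _ ⟨χ, hχ, rfl⟩
      exact Submodule.subset_span ⟨_, hmemB χ hχ, rfl⟩
    exact hle hθ
  let T : W →ₗ[ℂ] W := (powMap κ).restrict hTW
  have hT : ∀ θ : W, ((T θ : W) : G → ℂ) = fun g => (θ : G → ℂ) (g ^ κ) := fun θ => rfl
  -- first basis
  have hne : Nonempty B := by
    obtain ⟨χ, hχ⟩ := isPBlock_nonempty hB
    exact ⟨⟨χ, hχ⟩⟩
  have : Fintype B := Fintype.ofFinite _
  have hli1 : LinearIndependent ℂ (fun χ : B => (⟨(χ : IrrCharacter G), Submodule.subset_span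
      ⟨χ, χ.2, rfl⟩⟩ : W)) := by
    refine LinearIndependent.of_comp W.subtype ?_
    exact (Characters.Core.irr_linearIndependent (G := G)).comp _ Subtype.val_injective
  let b1 := basisOfLinearIndependentOfCardEqFinrank hli1 (by
    rw [hW, finrank_charSpan, Nat.card_eq_fintype_card])
  have hb1 : ∀ χ : B, ((b1 χ : W) : G → ℂ) = ((χ : IrrCharacter G) : G → ℂ) := by
    intro χ
    rw [show b1 χ = _ from congrFun (coe_basisOfLinearIndependentOfCardEqFinrank hli1 _) χ]
  let s1 : B → B := fun χ => ⟨⟨_, hirr χ⟩, hmemB χ χ.2⟩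
  have htr1 := S0860.trace_of_perm b1 T s1 (fun χ => by
    apply Subtype.ext
    rw [hT, hb1, hb1])
  -- second basis
  have hex : ∀ x : X, ∃ S : Set (IBr V (Subgroup.centralizer ({(x : G)} : Set G))),
      W.map (secMap p (x : G) (Subgroup.centralizer ({(x : G)} : Set G))) =
        Submodule.span ℂ (phi p '' S) := fun x => exists_secMap hM hV hB (hX x x.2)
  choose S hS using hex
  have : ∀ x : X, Fintype (S x) := fun x => Fintype.ofFinite _
  let J := Σ x : X, S x
  have hexF : ∀ j : J, ∃ θ : W, IsSec p (j.1 : G) (phi p (j.2 : IBr V _)) (θ : G → ℂ) := by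
    rintro ⟨x, i⟩
    have h1 : phi p (i : IBr V _) ∈ W.map (secMap p (x : G)
        (Subgroup.centralizer ({(x : G)} : Set G))) := by
      rw [hS]
      exact Submodule.subset_span ⟨i, i.2, rfl⟩
    obtain ⟨θ, hθ, hθ'⟩ := h1
    refine ⟨⟨cut p (x : G) θ, cut_mem hM hBU _ hθ⟩, ?_, ?_, ?_⟩
    · exact cut_isClassFunction (charSpan_isClassFunction hθ)
    · exact fun g hg => cut_of_not hg _
    · intro y hy
      have hcomm : Commute (x : G) (y : G) :=
        (Subgroup.mem_centralizer_singleton_iff.1 y.2).symm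
      show cut p (x : G) θ ((x : G) * (y : G)) = _
      rw [cut_of ((inSection_mul_iff (hX x x.2) hcomm (isPRegular_coe.2 hy)).2 (IsConj.refl _)),
        ← hθ', secMap_of hy]
  choose F hF using hexF
  -- values of the other section maps
  have hsec : ∀ (x : X) (j : J), secMap p (x : G) (Subgroup.centralizer ({(x : G)} : Set G))
      (F j : G → ℂ) = if h : j.1 = x then (fun y => phi p (j.2 : IBr V _)
        (h ▸ y : Subgroup.centralizer ({(j.1 : G)} : Set G))) else 0 := by
    rintro x ⟨x', i⟩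
    funext y
    by_cases h : x' = x
    · subst h
      rw [dif_pos rfl]
      by_cases hy : IsPRegular p y
      · rw [secMap_of hy]
        exact (hF ⟨x', i⟩).val y hy
      · rw [secMap_of_not hy]
        exact (phi_of_not _ hy).symm
    · rw [dif_neg h]
      by_cases hy : IsPRegular p y
      · rw [secMap_of hy]
        refine (hF ⟨x', i⟩).off _ fun hin => h ?_
        have hcomm : Commute (x : G) (y : G) :=
          (Subgroup.mem_centralizer_singleton_iff.1 y.2).symm
        have h2 := (inSection_mul_iff (hX x x.2) hcomm (isPRegular_coe.2 hy)).1 hin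
        exact Subtype.ext (isConj_unique hX hXrep x'.2 x.2 h2)
      · rw [secMap_of_not hy]
        rfl
  have hli2 : LinearIndependent ℂ F := by
    rw [Fintype.linearIndependent_iff]
    rintro a ha ⟨x, i⟩
    have h1 := congrArg (fun θ : W => secMap p (x : G)
      (Subgroup.centralizer ({(x : G)} : Set G)) (θ : G → ℂ)) ha
    simp only [Submodule.coe_zero, map_zero, AddSubmonoidClass.coe_finsetSum, Submodule.coe_smul,
      map_sum, map_smul] at h1
    rw [Fintype.sum_sigma, Finset.sum_eq_single x] at h1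
    · have h2 : ∑ i' : S x, a ⟨x, i'⟩ • phi p i'.1 = 0 := by
        rw [← h1]
        refine Finset.sum_congr rfl fun i' _ => ?_
        rw [hsec, dif_pos rfl]
      have h3 : LinearIndependent ℂ (fun i' : S x => phi p i'.1) :=
        (linearIndependent_phi (V := V) (p := p)).comp _ Subtype.val_injective
      exact Fintype.linearIndependent_iff.1 h3 (fun i' => a ⟨x, i'⟩) h2 i
    · intro x' _ hx'
      refine Finset.sum_eq_zero fun i' _ => ?_
      rw [hsec, dif_neg hx', smul_zero]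
    · intro h
      exact absurd (Finset.mem_univ _) h
  have hcard : Fintype.card J = finrank ℂ W := by
    rw [Fintype.card_sigma, hW, finrank_charSpan, card_eq_sum_finrank hM hBU X hX hXrep]
    rw [← Finset.sum_coe_sort X (fun x => finrank ℂ ↥((charSpan B).map (secMap p x
      (Subgroup.centralizer ({x} : Set G)))))]
    refine Finset.sum_congr rfl fun x _ => ?_
    rw [hS x, finrank_span_phi, Nat.card_eq_fintype_card]
  have hneJ : Nonempty J := by
    rw [← Fintype.card_pos_iff, hcard, hW, finrank_charSpan]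
    exact Nat.card_pos
  let b2 := basisOfLinearIndependentOfCardEqFinrank hli2 hcard
  have hb2 : ∀ j : J, b2 j = F j := fun j =>
    congrFun (coe_basisOfLinearIndependentOfCardEqFinrank hli2 hcard) j
  -- the power map permutes the second basis
  have hperm : ∀ j : J, ∃ j' : J, T (F j) = F j' := by
    rintro ⟨x, i⟩
    set u : G := (x : G) ^ κ' with hu
    have hux : u ^ κ = (x : G) := by
      rw [hu, ← pow_mul, mul_comm, hκ']
    have hup : ∃ k : ℕ, orderOf u = p ^ k := by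
      obtain ⟨n, hn⟩ := hX x x.2
      obtain ⟨m, -, hm⟩ := (Nat.dvd_prime_pow hp).1 (hn ▸ orderOf_pow_dvd κ' : orderOf u ∣ p ^ n)
      exact ⟨m, hm⟩
    obtain ⟨x', ⟨hx'X, hux'⟩, -⟩ := hXrep u hup
    obtain ⟨c, hc⟩ := isConj_iff.1 hux'
    have hcx : c * (x : G) * c⁻¹ = x' ^ κ := by rw [← hux, ← hc, conj_pow]
    have hm1 : ∀ y ∈ Subgroup.centralizer ({(x : G)} : Set G),
        c * y * c⁻¹ ∈ Subgroup.centralizer ({x'} : Set G) := by
      intro y hy
      rw [Subgroup.mem_centralizer_singleton_iff] at hy ⊢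
      have h1 : y * u = u * y := by
        have : Commute y (x : G) := hy
        exact (this.pow_right κ').eq
      rw [← hc]
      calc c * y * c⁻¹ * (c * u * c⁻¹) = c * (y * u) * c⁻¹ := by group
        _ = c * (u * y) * c⁻¹ := by rw [h1]
        _ = c * u * c⁻¹ * (c * y * c⁻¹) := by group
    have hm2 : ∀ y ∈ Subgroup.centralizer ({x'} : Set G),
        c⁻¹ * y * c ∈ Subgroup.centralizer ({(x : G)} : Set G) := by
      intro y hy
      rw [Subgroup.mem_centralizer_singleton_iff] at hy ⊢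
      have h1 : (c⁻¹ * y * c) * u = u * (c⁻¹ * y * c) := by
        have h2 : u = c⁻¹ * x' * c := by rw [← hc]; group
        rw [h2]
        calc c⁻¹ * y * c * (c⁻¹ * x' * c) = c⁻¹ * (y * x') * c := by group
          _ = c⁻¹ * (x' * y) * c := by rw [hy]
          _ = c⁻¹ * x' * c * (c⁻¹ * y * c) := by group
      have h3 : Commute (c⁻¹ * y * c) u := h1
      have h4 := (h3.pow_right κ).eq
      rwa [hux] at h4
    let e : Subgroup.centralizer ({(x : G)} : Set G) ≃* Subgroup.centralizer ({x'} : Set G) :=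
      { toFun := fun y => ⟨c * y * c⁻¹, hm1 y y.2⟩
        invFun := fun y => ⟨c⁻¹ * y * c, hm2 y y.2⟩
        left_inv := fun y => Subtype.ext (by
          show c⁻¹ * (c * (y : G) * c⁻¹) * c = y
          group)
        right_inv := fun y => Subtype.ext (by
          show c * (c⁻¹ * (y : G) * c) * c⁻¹ = y
          group)
        map_mul' := fun y z => Subtype.ext (by
          show c * ((y : G) * z) * c⁻¹ = c * y * c⁻¹ * (c * z * c⁻¹)
          group) }
    have he : ∀ y, ((e.symm y : Subgroup.centralizer ({(x : G)} : Set G)) : G) = c⁻¹ * y * c :=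
      fun y => rfl
    have hsecF : IsSec p x' (phi p (IBr.map e (i : IBr V _))) ((T (F ⟨x, i⟩) : W) : G → ℂ) := by
      refine ⟨charSpan_isClassFunction (T (F ⟨x, i⟩)).2, ?_, ?_⟩
      · intro g hg
        rw [hT]
        refine (hF ⟨x, i⟩).off _ fun hin => hg ?_
        have h1 := inSection_pow hin hp κ'
        rw [← pow_mul, hκ'] at h1
        obtain ⟨z, hz, hxz⟩ := h1
        exact ⟨z, hz, hux'.symm.trans hxz⟩
      · intro y hy
        rw [hT, phi_map]
        have hcomm : Commute x' (y : G) :=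
          (Subgroup.mem_centralizer_singleton_iff.1 y.2).symm
        have hyr : (y : G) ^ κ = (y : G) := pow_eq_of_isPRegular hκ1 (isPRegular_coe.2 hy)
        have h1 : IsPRegular p (e.symm y) := by
          unfold IsPRegular
          rw [MulEquiv.orderOf_eq]
          exact hy
        have h2 : (F ⟨x, i⟩ : G → ℂ) ((x' * (y : G)) ^ κ) =
            (F ⟨x, i⟩ : G → ℂ) ((x : G) * ((e.symm y : Subgroup.centralizer ({(x : G)} : Set G)) : G)) := by
          rw [← (hF ⟨x, i⟩).cls ((x : G) * _) c]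
          congr 1
          rw [hcomm.mul_pow, hyr, ← hcx, he]
          group
        show (F ⟨x, i⟩ : G → ℂ) ((x' * (y : G)) ^ κ) = _
        rw [h2, (hF ⟨x, i⟩).val _ h1]
    have hmem : phi p (IBr.map e (i : IBr V _)) ∈ Submodule.span ℂ (phi p '' S ⟨x', hx'X⟩) := by
      rw [← hS]
      refine ⟨_, (T (F ⟨x, i⟩)).2, ?_⟩
      funext y
      by_cases hy : IsPRegular p y
      · rw [secMap_of hy, hsecF.val y hy]
      · rw [secMap_of_not hy, phi_of_not _ hy]
    have hmem' : IBr.map e (i : IBr V _) ∈ S ⟨x', hx'X⟩ := by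
      by_contra hcon
      exact (linearIndependent_phi (V := V) (p := p)).notMem_span_image hcon hmem
    refine ⟨⟨⟨x', hx'X⟩, ⟨_, hmem'⟩⟩, Subtype.ext ?_⟩
    exact hsecF.unique (hF ⟨⟨x', hx'X⟩, ⟨_, hmem'⟩⟩)
  choose s2 hs2 using hperm
  have htr2 := S0860.trace_of_perm b2 T s2 (fun j => by rw [hb2, hb2, hs2])
  -- comparison
  have hcount : Nat.card {χ : B // s1 χ = χ} = Nat.card {j : J // s2 j = j} := by
    have := htr1.symm.trans htr2
    exact_mod_cast this
  have hfix1 : Nat.card {χ : B // s1 χ = χ} ≤ Nat.card {χ : IrrCharacter G // χ ∈ B ∧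
      ∀ g : G, (χ : G → ℂ) (g ^ κ) = (χ : G → ℂ) g} := by
    refine Nat.card_le_card_of_injective (fun χ => ⟨(χ : B), (χ : B).2, fun g => ?_⟩) ?_
    · have h1 := congrArg (fun ψ : B => ((ψ : IrrCharacter G) : G → ℂ) g) χ.2
      exact h1
    · intro χ χ' h
      apply Subtype.ext
      apply Subtype.ext
      exact congrArg (fun z : {χ : IrrCharacter G // χ ∈ B ∧
        ∀ g : G, (χ : G → ℂ) (g ^ κ) = (χ : G → ℂ) g} => z.1) h
  -- the sections of the fixed elements
  have hTfix : ∀ j : J, (j.1 : G) ^ κ = (j.1 : G) → s2 j = j := by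
    rintro ⟨x, i⟩ hxκ
    have hxκ' : (x : G) ^ κ' = (x : G) := by
      have h1 := hκ' (x : G)
      rwa [pow_mul, hxκ] at h1
    apply hli2.injective
    rw [← hs2]
    apply Subtype.ext
    rw [hT]
    funext g
    by_cases hg : InSection p (x : G) g
    · obtain ⟨c, y, hy, hc⟩ := exists_conj_eq hg
      have hcomm : Commute (x : G) (y : G) := (Subgroup.mem_centralizer_singleton_iff.1 y.2).symm
      have hyr : (y : G) ^ κ = (y : G) := pow_eq_of_isPRegular hκ1 (isPRegular_coe.2 hy)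
      rw [← (hF ⟨x, i⟩).cls g c, ← (hF ⟨x, i⟩).cls (g ^ κ) c, ← conj_pow, hc, hcomm.mul_pow, hyr]
      exact congrArg (fun z => (F ⟨x, i⟩ : G → ℂ) (z * (y : G))) hxκ
    · have h1 : ¬ InSection p (x : G) (g ^ κ) := by
        intro h
        apply hg
        have h2 := inSection_pow h hp κ'
        rwa [← pow_mul, hκ', hxκ'] at h2
      rw [(hF _).off g hg, (hF _).off (g ^ κ) h1]
  have hfix2 : Nat.card (Σ x : X₀, S ⟨(x : G), hX₀X x.2⟩) ≤ Nat.card {j : J // s2 j = j} := by
    refine Nat.card_le_card_of_injective (fun i => ⟨⟨⟨(i.1 : G), hX₀X i.1.2⟩, i.2⟩, hTfix _ (hfix _ i.1.2)⟩) ?_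
    rintro ⟨⟨x, hx⟩, i⟩ ⟨⟨x', hx'⟩, i'⟩ h
    have h1 := congrArg Subtype.val h
    have h2 := Sigma.mk.inj h1
    have h3 : x = x' := congrArg Subtype.val h2.1
    subst h3
    have h4 : i = i' := eq_of_heq h2.2
    rw [h4]
  have hsum : ∑ x ∈ X₀, finrank ℂ ((charSpan B).map (secMap p x (Subgroup.centralizer ({x} : Set G)))) =
      Nat.card (Σ x : X₀, S ⟨(x : G), hX₀X x.2⟩) := by
    rw [Nat.card_eq_fintype_card, Fintype.card_sigma,
      ← Finset.sum_coe_sort X₀ (fun x => finrank ℂ ((charSpan B).map (secMap p x (Subgroup.centralizer ({x} : Set G)))))]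
    refine Finset.sum_congr rfl fun x _ => ?_
    rw [hS ⟨(x : G), hX₀X x.2⟩, finrank_span_phi, Nat.card_eq_fintype_card]
  rw [hsum]
  exact (hfix2.trans hcount.ge).trans hfix1

end main

end Cfsg.Agent.H76.KJ
end

-- part: H76/KJ/Basic
section
/-!
# S4791 + S4927, D1J, D6J, D8J: lower bounds for `kJ`

* `isCyclic_JJ` : the group of exponents is cyclic for odd `p`;
* `sum_le_kJ` (D1J), `kJ_of_family`, `kJ_of_one` / `kJ_of_elt` (D6J), `kJ_of_two` (D8J), `kJ_of_one_add`.
-/

set_option autoImplicit false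

open Cfsg Subgroup
open Cfsg.Agent.H674.XZ Cfsg.Agent.H508.XR

namespace Cfsg.Agent.H76.KJ

universe u

variable {p : ℕ} [hp : Fact p.Prime] {M : Ideal AlgInt}

/-- the group of exponents is cyclic for odd `p` -/
theorem isCyclic_JJ (h3 : p ≠ 2) (S : Type u) [Group S] [Finite S] : IsCyclic (JJ p S) := by
  have hcard : Nat.card S ≠ 0 := (Nat.card_pos (α := S)).ne'
  set a := (Nat.card S).factorization p with ha
  have hd : p ^ a ∣ Nat.card S := Nat.ordProj_dvd _ _
  have hcyc : IsCyclic (ZMod (p ^ a))ˣ := ZMod.isCyclic_units_of_prime_pow p hp.out h3 a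
  let f : JJ p S →* (ZMod (p ^ a))ˣ := (ZMod.unitsMap hd).comp (JJ p S).subtype
  have hf : Function.Injective f := by
    rw [injective_iff_map_eq_one]
    rintro ⟨u, hu⟩ h
    have h1 : ex u ≡ 1 [MOD mp p S] := ((mem_JJ (p := p) u).1 hu).of_dvd (mp_dvd_dd p S)
    have h2 : ex u ≡ 1 [MOD p ^ a] := by
      have h3 : ZMod.unitsMap hd u = 1 := h
      rw [← ZMod.natCast_eq_natCast_iff]
      have h4 := congrArg Units.val h3
      rw [ZMod.unitsMap_def, Units.coe_map, Units.val_one, MonoidHom.coe_coe, ← ex_cast, map_natCast] at h4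
      rw [h4, Nat.cast_one]
    have h5 : ex u ≡ 1 [MOD p ^ a * mp p S] := by
      refine (Nat.modEq_and_modEq_iff_modEq_mul ?_).1 ⟨h2, h1⟩
      exact Nat.Coprime.pow_left _ ((Nat.Prime.coprime_iff_not_dvd hp.out).2 (not_dvd_mp hp.out S))
    have h6 : p ^ a * mp p S = Nat.card S := Nat.ordProj_mul_ordCompl_eq_self (Nat.card S) p
    rw [h6] at h5
    apply Subtype.ext
    apply Units.ext
    rw [← ex_cast]
    have h7 := (ZMod.natCast_eq_natCast_iff _ _ _).2 h5
    rw [h7, Nat.cast_one]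
    rfl
  exact isCyclic_of_injective f hf

/-- D1J -/
theorem sum_le_kJ {S : Type u} [Group S] [Finite S] (h3 : p ≠ 2) (hM : IsPModular p M) (X : Finset S)
    (hX : ∀ x ∈ X, x ^ p = 1) (hcl : ∀ x ∈ X, ∀ y ∈ X, IsConj x y → x = y) :
    ∑ x ∈ X, blockRank p (principalBlock M ↥(centralizer ({x} : Set S))) ≤ kJ p M S := by
  classical
  have hMp := Blocks.Local.isPrime_of_isPModular hM
  have := Characters.Core.finite_irr (G := S)
  have hJ := isCyclic_JJ (p := p) h3 S
  obtain ⟨⟨u, hu⟩, hgen⟩ := IsCyclic.exists_generator (α := JJ p S)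
  have hu1 := (mem_JJ (p := p) u).1 hu
  have hord : ∀ x ∈ X, ∃ k : ℕ, orderOf x = p ^ k := by
    intro x hx
    rcases (Nat.dvd_prime hp.out).1 (orderOf_dvd_of_pow_eq_one (hX x hx)) with h | h
    · exact ⟨0, by rw [h, pow_zero]⟩
    · exact ⟨1, by rw [h, pow_one]⟩
  have hfix : ∀ x ∈ X, x ^ ex u = x := by
    intro x hx
    have h1 : orderOf x ∣ dd p S := by
      refine Nat.dvd_gcd (orderOf_dvd_natCard x) ?_
      exact (orderOf_dvd_of_pow_eq_one (hX x hx)).trans (Dvd.intro _ rfl)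
    have h2 : x ^ ex u = x ^ 1 := pow_eq_pow_iff_modEq.2 (hu1.of_dvd h1)
    rw [h2, pow_one]
  have key := sum_finrank_le_fixed hM Blocks.PrincipalSection.isPBlock_principalBlock (B := principalBlock M S)
    (κ := ex u) (ex_coprime u) (hu1.of_dvd (mp_dvd_dd p S)) X hord hcl hfix
  have h4 : ∑ x ∈ X, blockRank p (principalBlock M ↥(centralizer ({x} : Set S))) =
      ∑ x ∈ X, Module.finrank ℂ ((H608.BlockRank.charSpan (principalBlock M S)).map
        (H608.BlockRank.secMap p x (centralizer ({x} : Set S)))) :=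
    Finset.sum_congr rfl fun x hx => (H634.Cols.finrank_secMap_principal hM (hord x hx)).symm
  rw [h4]
  refine key.trans ?_
  unfold kJ
  refine Nat.card_le_card_of_injective (fun χ => ⟨χ.1, χ.2.1, ?_⟩) ?_
  · rw [alm_iff]
    let := gact S
    have h5 : u ∈ MulAction.stabilizer (ZMod (Nat.card S))ˣ χ.1 := (pw_eq_iff u χ.1).2 χ.2.2
    intro v hv
    obtain ⟨k, hk⟩ := mem_zpowers_iff.1 (hgen ⟨v, hv⟩)
    have h6 : v = u ^ k := (congrArg Subtype.val hk).symm
    have h7 : v ∈ MulAction.stabilizer (ZMod (Nat.card S))ˣ χ.1 := h6 ▸ zpow_mem h5 k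
    exact h7
  · intro χ χ' h
    exact Subtype.ext (congrArg Subtype.val h :)

/-- families `Y i` of elements of order dividing `p` with `b i ≤ l(B₀(C(y)))`, pairwise not conjugate -/
theorem kJ_of_family {S : Type u} [Group S] [Finite S] (h3 : p ≠ 2) (hM : IsPModular p M) {ι : Type*} (s : Finset ι)
    (Y : ι → Finset S) (b : ι → ℕ) (hY : ∀ i ∈ s, ∀ y ∈ Y i, y ^ p = 1)
    (hb : ∀ i ∈ s, ∀ y ∈ Y i, b i ≤ blockRank p (principalBlock M ↥(centralizer ({y} : Set S))))
    (hcl : ∀ i ∈ s, ∀ j ∈ s, ∀ y ∈ Y i, ∀ z ∈ Y j, IsConj y z → i = j ∧ y = z) (h1 : ∀ i ∈ s, (1 : S) ∉ Y i) :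
    ∑ i ∈ s, (Y i).card * b i + blockRank p (principalBlock M S) ≤ kJ p M S := by
  classical
  have hdisj : (s : Set ι).PairwiseDisjoint Y := by
    intro i hi j hj hij
    rw [Function.onFun, Finset.disjoint_left]
    intro y hyi hyj
    exact hij (hcl i hi j hj y hyi y hyj (IsConj.refl y)).1
  have h1' : (1 : S) ∉ s.biUnion Y := by
    intro h
    obtain ⟨i, hi, h2⟩ := Finset.mem_biUnion.1 h
    exact h1 i hi h2
  have key := sum_le_kJ (S := S) h3 hM (insert 1 (s.biUnion Y)) (by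
    intro x hx
    rcases Finset.mem_insert.1 hx with rfl | hx
    · exact one_pow p
    · obtain ⟨i, hi, h2⟩ := Finset.mem_biUnion.1 hx
      exact hY i hi x h2) (by
    intro x hx y hy hxy
    rcases Finset.mem_insert.1 hx with rfl | hx <;> rcases Finset.mem_insert.1 hy with rfl | hy
    · rfl
    · exact (isConj_one_right.1 hxy).symm
    · exact isConj_one_left.1 hxy
    · obtain ⟨i, hi, h2⟩ := Finset.mem_biUnion.1 hx
      obtain ⟨j, hj, h3⟩ := Finset.mem_biUnion.1 hy
      exact (hcl i hi j hj x h2 y h3 hxy).2)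
  rw [Finset.sum_insert h1', Finset.sum_biUnion hdisj] at key
  have h2 : blockRank p (principalBlock M S) ≤
      blockRank p (principalBlock M ↥(centralizer ({(1 : S)} : Set S))) := by
    apply H296.KB.rank_quot_le hM (centralizer ({(1 : S)} : Set S)).subtype
    intro g
    exact ⟨⟨g, by rw [mem_centralizer_singleton_iff, mul_one, one_mul]⟩, rfl⟩
  have h4 : ∑ i ∈ s, (Y i).card * b i ≤
      ∑ i ∈ s, ∑ y ∈ Y i, blockRank p (principalBlock M ↥(centralizer ({y} : Set S))) := by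
    apply Finset.sum_le_sum
    intro i hi
    rw [← smul_eq_mul, ← Finset.sum_const]
    exact Finset.sum_le_sum (hb i hi)
  omega

theorem pow_p {S : Type u} [Group S] {y : S} (h : orderOf y = p ^ 1) : y ^ p = 1 := by
  rw [pow_one] at h
  rw [← h]
  exact pow_orderOf_eq_one y

/-- D6J -/
theorem kJ_of_elt {S : Type u} [Group S] [Finite S] (h3 : p ≠ 2) (hM : IsPModular p M) (x : S) (hx : orderOf x = p)
    (e b : ℕ) (hfus : ∀ (g : S) (i : ℕ), g * x * g⁻¹ = x ^ i → (i : ZMod p) ^ e = 1)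
    (hb : b ≤ blockRank p (principalBlock M ↥(centralizer ({x} : Set S)))) :
    (p - 1) / e * b + blockRank p (principalBlock M S) ≤ kJ p M S := by
  obtain ⟨Y, h1, h2, h4, h5, h6, h7⟩ :=
    H832.KB.exists_set (M := M) x 1 (by rw [hx, pow_one]) one_ne_zero e b hfus hb
  have key := kJ_of_family h3 hM (Finset.univ : Finset Unit) (fun _ => Y) (fun _ => b)
    (fun _ _ y hy => pow_p (h5 y hy)) (fun _ _ => h6) (fun _ _ _ _ y hy z hz h => ⟨rfl, h4 y hy z hz h⟩)
    (fun _ _ => h7)
  rw [Finset.univ_unique, Finset.sum_singleton] at key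
  exact (Nat.add_le_add_right (Nat.mul_le_mul_right _ h1) _).trans key

/-- D8J: two elements of order `p` whose powers are not conjugate -/
theorem kJ_of_two {S : Type u} [Group S] [Finite S] (h3 : p ≠ 2) (hM : IsPModular p M) (x x' : S) (hx : orderOf x = p)
    (hx' : orderOf x' = p) (e e' b b' : ℕ)
    (hfus : ∀ (g : S) (i : ℕ), g * x * g⁻¹ = x ^ i → (i : ZMod p) ^ e = 1)
    (hfus' : ∀ (g : S) (i : ℕ), g * x' * g⁻¹ = x' ^ i → (i : ZMod p) ^ e' = 1)
    (hne : ∀ (g : S) (i : ℕ), g * x * g⁻¹ ≠ x' ^ i)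
    (hb : b ≤ blockRank p (principalBlock M ↥(centralizer ({x} : Set S))))
    (hb' : b' ≤ blockRank p (principalBlock M ↥(centralizer ({x'} : Set S)))) :
    (p - 1) / e * b + (p - 1) / e' * b' + blockRank p (principalBlock M S) ≤ kJ p M S := by
  have hx1 : orderOf x = p ^ 1 := by rw [hx, pow_one]
  have hx1' : orderOf x' = p ^ 1 := by rw [hx', pow_one]
  obtain ⟨Y, h1, h2, h4, h5, h6, h7⟩ := H832.KB.exists_set (M := M) x 1 hx1 one_ne_zero e b hfus hb
  obtain ⟨Y', h1', h2', h4', h5', h6', h7'⟩ := H832.KB.exists_set (M := M) x' 1 hx1' one_ne_zero e' b' hfus' hb'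
  have hcross : ∀ y ∈ Y, ∀ z ∈ Y', ¬ IsConj y z := by
    intro y hy z hz h
    obtain ⟨i, hi, rfl⟩ := h2 y hy
    obtain ⟨j, hj, rfl⟩ := h2' z hz
    obtain ⟨g, hg⟩ := isConj_iff.1 h
    obtain ⟨m, -, hm⟩ := H832.KB.conj_of_conj_pow hx1 hi hg
    exact hne g _ hm
  have key := kJ_of_family h3 hM (Finset.univ : Finset Bool) (fun t => if t then Y else Y')
    (fun t => if t then b else b') (by
      rintro (_ | _) - y hy
      · exact pow_p (h5' y hy)
      · exact pow_p (h5 y hy)) (by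
      rintro (_ | _) - y hy
      · exact h6' y hy
      · exact h6 y hy) (by
      rintro (_ | _) - (_ | _) - y hy z hz h
      · exact ⟨rfl, h4' y hy z hz h⟩
      · exact absurd h.symm (hcross z hz y hy)
      · exact absurd h (hcross y hy z hz)
      · exact ⟨rfl, h4 y hy z hz h⟩) (by
      rintro (_ | _) -
      · exact h7'
      · exact h7)
  rw [Fintype.sum_bool] at key
  have e1 : (p - 1) / e * b ≤ Y.card * b := Nat.mul_le_mul_right _ h1
  have e2 : (p - 1) / e' * b' ≤ Y'.card * b' := Nat.mul_le_mul_right _ h1'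
  simp only [if_true, Bool.false_eq_true, if_false] at key
  omega

/-- one element and one more class of elements of order `p` -/
theorem kJ_of_elt_add {S : Type u} [Group S] [Finite S] (h3 : p ≠ 2) (hM : IsPModular p M) (x : S)
    (hx : orderOf x = p) (e b : ℕ) (hfus : ∀ (g : S) (i : ℕ), g * x * g⁻¹ = x ^ i → (i : ZMod p) ^ e = 1)
    (hb : b ≤ blockRank p (principalBlock M ↥(centralizer ({x} : Set S))))
    (z : S) (hz : orderOf z = p) (hzx : ∀ i : ℕ, ¬ IsConj z (x ^ i)) :
    (p - 1) / e * b + 1 + blockRank p (principalBlock M S) ≤ kJ p M S := by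
  obtain ⟨Y, h1, h2, h4, h5, h6, h7⟩ :=
    H832.KB.exists_set (M := M) x 1 (by rw [hx, pow_one]) one_ne_zero e b hfus hb
  have hz1 : z ≠ 1 := by
    rintro rfl
    rw [orderOf_one] at hz
    exact hp.out.one_lt.ne hz
  have hcross : ∀ y ∈ Y, ¬ IsConj z y := by
    intro y hy
    obtain ⟨i, -, rfl⟩ := h2 y hy
    exact hzx i
  have key := kJ_of_family h3 hM (Finset.univ : Finset Bool) (fun t => if t then Y else {z})
    (fun t => if t then b else 1) (by
      rintro (_ | _) - y hy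
      · obtain rfl := Finset.mem_singleton.1 hy
        exact pow_p (by rw [hz, pow_one])
      · exact pow_p (h5 y hy)) (by
      rintro (_ | _) - y hy
      · exact H296.KB.one_le_rank hM
      · exact h6 y hy) (by
      rintro (_ | _) - (_ | _) - y hy w hw h
      · exact ⟨rfl, (Finset.mem_singleton.1 hy).trans (Finset.mem_singleton.1 hw).symm⟩
      · obtain rfl := Finset.mem_singleton.1 hy
        exact absurd h (hcross w hw)
      · obtain rfl := Finset.mem_singleton.1 hw
        exact absurd h.symm (hcross y hy)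
      · exact ⟨rfl, h4 y hy w hw h⟩) (by
      rintro (_ | _) -
      · intro h
        exact hz1 (Finset.mem_singleton.1 h).symm
      · exact h7)
  rw [Fintype.sum_bool] at key
  have e1 : (p - 1) / e * b ≤ Y.card * b := Nat.mul_le_mul_right _ h1
  simp only [if_true, Bool.false_eq_true, if_false, Finset.card_singleton] at key
  omega

end Cfsg.Agent.H76.KJ
end
end

-- part: H614/XZ/Tr
section
set_option linter.all false
open scoped Cfsg.Agent.FastGrp

/-!
# S4791 + S4927: transport of `FV` and `Fam` along isomorphisms (helper614)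
-/

set_option autoImplicit false

namespace Cfsg.Agent.H614.XZ

open Cfsg Cfsg.Agent.Characters Cfsg.Agent.Characters.Core Cfsg.Agent.H674.XZ Cfsg.Agent.H443.XC

universe u v

variable {p : ℕ} {M : Ideal AlgInt} {S : Type u} {T : Type v} [Group S] [Group T]

theorem ip_equiv [Finite S] [Finite T] (e : S ≃* T) (ψ χ : T → ℂ) : ip (fun s => ψ (e s)) (fun s => χ (e s)) = ip ψ χ := by
  have := Fintype.ofFinite S
  have := Fintype.ofFinite T
  rw [ip_eq, ip_eq, classInner_def, classInner_def, Nat.card_congr e.toEquiv]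
  congr 1
  exact Fintype.sum_equiv e.toEquiv _ _ fun s => rfl

theorem dd_congr (e : S ≃* T) : dd p S = dd p T := by
  unfold dd mp
  rw [Nat.card_congr e.toEquiv]

theorem mem_principalBlock_irrMap (e : S ≃* T) (χ : IrrCharacter S) :
    H649.irrMap e χ ∈ principalBlock M T ↔ χ ∈ principalBlock M S := by
  rw [← H649.blkMap_principalBlock e]
  exact H649.irrMap_mem_blkMap

theorem mem0_irrMap (e : S ≃* T) (χ : IrrCharacter S) (h : Mem0 p M χ) : Mem0 p M (H649.irrMap e χ) := by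
  refine ⟨(mem_principalBlock_irrMap e χ).2 h.1, ?_, ?_⟩
  · rw [H649.charDegree_irrMap]
    exact h.2.1
  · obtain ⟨n, h1, h2, h3⟩ := h.2.2
    exact ⟨n, h1, h2, fun t => h3 _⟩

theorem bsum_equiv [Finite S] [Finite T] (e : S ≃* T) (m : IrrCharacter T → ℤ) :
    bsum M (fun χ : IrrCharacter S => m (H649.irrMap e χ)) = bsum M m := by
  classical
  unfold bsum
  have h1 := finite_irr (G := S)
  have h2 := finite_irr (G := T)
  let : Fintype (IrrCharacter S) := Fintype.ofFinite _
  let : Fintype (IrrCharacter T) := Fintype.ofFinite _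
  refine Fintype.sum_equiv (H649.irrEquiv e) _ _ fun χ => ?_
  rw [H649.irrEquiv_apply, H649.charDegree_irrMap]
  by_cases h : χ ∈ principalBlock M S
  · rw [if_pos h, if_pos ((mem_principalBlock_irrMap e χ).2 h)]
  · rw [if_neg h, if_neg (fun h' => h ((mem_principalBlock_irrMap e χ).1 h'))]

theorem fv_equiv [Finite S] [Finite T] (e : S ≃* T) {ψ : T → ℂ} {c : ℤ} (h : FV p M ψ c) : FV p M (fun s => ψ (e s)) c := by
  refine ⟨fun w hw g => ?_, ?_⟩
  · have hc : Nat.card S = Nat.card T := Nat.card_congr e.toEquiv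
    have : NeZero (Nat.card S) := ⟨(Nat.card_pos (α := S)).ne'⟩
    have : NeZero (Nat.card T) := ⟨(Nat.card_pos (α := T)).ne'⟩
    have h1 : (ex w).Coprime (Nat.card T) := hc ▸ ex_coprime w
    let w' : (ZMod (Nat.card T))ˣ := ZMod.unitOfCoprime (ex w) h1
    have h2 : ex w' = ex w := by
      change ((ZMod.unitOfCoprime (ex w) h1 : (ZMod (Nat.card T))ˣ) : ZMod (Nat.card T)).val = ex w
      rw [ZMod.coe_unitOfCoprime, ZMod.val_natCast, Nat.mod_eq_of_lt]
      rw [← hc]
      exact ZMod.val_lt _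
    have h3 : w' ∈ JJ p T := by
      rw [mem_JJ, h2, ← dd_congr e]
      exact (mem_JJ w).1 hw
    have h4 := h.inv w' h3 (e g)
    rw [h2, ← map_pow] at h4
    exact h4
  · obtain ⟨m, h1, h2⟩ := h.int
    refine ⟨fun χ => m (H649.irrMap e χ), fun χ => ?_, ?_⟩
    · rw [← h1, ← ip_equiv e]
      congr 1
      funext s
      exact (H649.irrMap_apply' e χ s).symm
    · rw [bsum_equiv e m]
      exact h2

theorem prA_congr (e : S ≃* T) {α : MulAut S} (h : PrA p α) : PrA p (MulAut.congr e α) := by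
  obtain ⟨k, h1, s, h2⟩ := h
  refine ⟨k, h1, e s, ?_⟩
  rw [← map_pow, h2]
  apply MulEquiv.ext
  intro t
  change e (s * e.symm t * s⁻¹) = e s * t * (e s)⁻¹
  rw [map_mul, map_mul, map_inv, e.apply_symm_apply]

/-- **Transport of families.** -/
theorem fam_equiv [Finite S] [Finite T] (e : S ≃* T) {R : ℕ} (h : Fam p M T R) : Fam p M S R := by
  obtain ⟨ψ, c, h⟩ := h
  refine ⟨fun i s => ψ i (e s), c, fun i => ?_⟩
  obtain ⟨h1, h2, h3, h4, h5, h6⟩ := h i
  refine ⟨isCharacter_comp e.toMonoidHom h1, fun s => h2 _, fv_equiv e h3, h4, fun j hij => ?_, ?_⟩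
  · rw [ip_equiv]
    exact h5 j hij
  · intro θ hθ hne α hα s
    have h7 := h6 (H649.irrMap e θ) (mem0_irrMap e θ hθ) (by
      intro h0
      apply hne
      rw [← h0, ← ip_equiv e]
      congr 1
      funext s
      exact (H649.irrMap_apply' e θ s).symm) (MulAut.congr e α) (prA_congr e hα) (e s)
    rw [H649.irrMap_apply'] at h7
    rw [← h7]
    have h8 : (MulAut.congr e α) (e s) = e (α s) := by
      change e (α (e.symm (e s))) = e (α s)
      rw [e.symm_apply_apply]
    rw [h8, H649.irrMap_apply']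

end Cfsg.Agent.H614.XZ
end

-- part: H322/XR/Cen
section
set_option linter.all false
open scoped Cfsg.Agent.FastGrp

/-!
# The number of elements of the Weyl group which commute with `w` (S4791, S4927; helper322)

A walk of matrices `W₀ = W, W₁, …` of the conjugates of `w` by simple reflections; if the walk has `n` different
matrices then `n * |C(w)| ≤ |W|`.
-/

set_option autoImplicit false
set_option linter.unusedSectionVars false

namespace Cfsg.Agent.H322.XR

open CoxeterSystem Cfsg Cfsg.Lie Cfsg.Lie.ChevalleyDatum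
open Cfsg.Agent.ChevalleyStructure Cfsg.Agent.ChevalleyStructure.Elts Cfsg.Agent.ChevalleyStructure.CoxeterGeom
  Cfsg.Agent.ChevalleyStructure.CoxeterGeomTypes Cfsg.Agent.ChevalleyStructure.NPerm
  Cfsg.Agent.ChevalleyStructure.RootVec
open Cfsg.Agent.Tits.Roots Cfsg.Agent.Tits.Core Cfsg.Agent.Nodes Cfsg.Agent.Nodes.Reps Cfsg.Agent.Nodes.BNOf
  Cfsg.Agent.Nodes.RGDChev Cfsg.Agent.Nodes.Bruhat Cfsg.Agent.Nodes.SubComb Cfsg.Agent.Nodes.Coroot
open Cfsg.Agent.H129.TorusChar Cfsg.Agent.H129.TorusCent Cfsg.Agent.H129.TorusTw Cfsg.Agent.H129.TorusMain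
  Cfsg.Agent.H129.WData Cfsg.Agent.H210.EL Cfsg.Agent.H208.XR Cfsg.Agent.H440.TD4

/-- the first matrix of a walk -/
def hdw {l : ℕ} (W : Mat l) : List (Fin l × Mat l) → Mat l
  | [] => W
  | (_, U) :: _ => U

/-- a walk of matrices of conjugates by simple reflections -/
def WalkOK {l : ℕ} (A W : Mat l) : List (Fin l × Mat l) → Prop
  | [] => True
  | (i, U) :: L => (∀ j m, U j m = (hdw W L j m - A i j * hdw W L i m) -
      if m = i then ∑ n, A i n * (hdw W L j n - A i j * hdw W L i n) else 0) ∧ WalkOK A W L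

instance decWalkOK {l : ℕ} (A W : Mat l) : ∀ L : List (Fin l × Mat l), Decidable (WalkOK A W L)
  | [] => isTrue trivial
  | (i, U) :: L =>
    have := decWalkOK A W L
    inferInstanceAs (Decidable ((∀ j m, U j m = (hdw W L j m - A i j * hdw W L i m) -
      if m = i then ∑ n, A i n * (hdw W L j n - A i j * hdw W L i n) else 0) ∧ WalkOK A W L))

section

variable {D : ChevalleyDatum} {l : ℕ} {M : CoxeterMatrix (Fin l)} (hp : IsType D l M)
  {G : Type*} [Group G] (cs : CoxeterSystem M G)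

theorem pairing_sr (i j : Fin l) : pairing (cartanOf D l) i (sr j) = cartanOf D l i j := by
  unfold pairing
  rw [Finset.sum_eq_single j]
  · rw [sr_self, mul_one]
  · intro n _ hn
    rw [sr_ne hn, mul_zero]
  · intro h
    exact absurd (Finset.mem_univ _) h

theorem step_rep {A : Mat l} (hA : ∀ i j, A i j = cartanOf D l i j) {w : G} {W U : Mat l} {i : Fin l}
    (hw : ∀ j, rep cs hp.isCartan w (sr j) = W j)
    (h : ∀ j m, U j m = (W j m - A i j * W i m) - if m = i then ∑ n, A i n * (W j n - A i j * W i n) else 0) (j : Fin l) :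
    rep cs hp.isCartan (cs.simple i * w * (cs.simple i)⁻¹) (sr j) = U j := by
  have h1 : rep cs hp.isCartan w (sr j - pairing (cartanOf D l) i (sr j) • sr i) = W j - A i j • W i := by
    rw [pairing_sr, map_sub, map_zsmul, hw, hw, hA]
  rw [inv_simple, rep_mul_apply, rep_mul_apply, rep_simple_eq cs hp.isCartan i (sr j), h1, rep_simple_eq]
  funext m
  rw [h, Pi.sub_apply, Pi.sub_apply, Pi.smul_apply, Pi.smul_apply, smul_eq_mul, smul_eq_mul]
  have e : pairing (cartanOf D l) i (W j - A i j • W i) = ∑ n, A i n * (W j n - A i j * W i n) := by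
    unfold pairing
    exact Finset.sum_congr rfl fun n _ => by rw [hA, Pi.sub_apply, Pi.smul_apply, smul_eq_mul, hA]
  rw [e]
  by_cases hm : m = i
  · subst hm; rw [if_pos rfl, sr_self, mul_one]
  · rw [if_neg hm, sr_ne hm, mul_zero]

theorem walk_rep {A : Mat l} (hA : ∀ i j, A i j = cartanOf D l i j) {w : G} {W : Mat l}
    (hw : ∀ j, rep cs hp.isCartan w (sr j) = W j) {L : List (Fin l × Mat l)} (h : WalkOK A W L) :
    ∃ v : G, ∀ j, rep cs hp.isCartan (v * w * v⁻¹) (sr j) = hdw W L j := by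
  induction L with
  | nil => exact ⟨1, fun j => by rw [one_mul, inv_one, mul_one]; exact hw j⟩
  | cons x L ih =>
    obtain ⟨i, U⟩ := x
    obtain ⟨h1, h2⟩ := h
    obtain ⟨v, hv⟩ := ih h2
    refine ⟨cs.simple i * v, fun j => ?_⟩
    have e : cs.simple i * v * w * (cs.simple i * v)⁻¹ = cs.simple i * (v * w * v⁻¹) * (cs.simple i)⁻¹ := by group
    rw [e]
    exact step_rep hp cs hA hv h1 j

theorem walk_all {A : Mat l} (hA : ∀ i j, A i j = cartanOf D l i j) {w : G} {W : Mat l}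
    (hw : ∀ j, rep cs hp.isCartan w (sr j) = W j) {L : List (Fin l × Mat l)} (h : WalkOK A W L) :
    ∀ U ∈ W :: L.map Prod.snd, ∃ v : G, ∀ j, rep cs hp.isCartan (v * w * v⁻¹) (sr j) = U j := by
  induction L with
  | nil =>
    intro U hU
    rw [List.map_nil, List.mem_singleton] at hU
    subst hU
    exact walk_rep hp cs hA hw (L := []) trivial
  | cons x L ih =>
    intro U hU
    obtain ⟨i, V⟩ := x
    rw [List.map_cons, List.mem_cons, List.mem_cons] at hU
    rcases hU with rfl | rfl | hU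
    · exact ih h.2 _ List.mem_cons_self
    · exact walk_rep hp cs hA hw h
    · exact ih h.2 _ (List.mem_cons_of_mem _ hU)

/-- **The number of elements of the Weyl group which commute with `w`.** -/
theorem card_Cth_le {A : Mat l} (hA : ∀ i j, A i j = cartanOf D l i j) {w : M.Group} {W : Mat l}
    (hw : ∀ j, rep M.toCoxeterSystem hp.isCartan w (sr j) = W j) {L : List (Fin l × Mat l)} (h : WalkOK A W L)
    (hn : (W :: L.map Prod.snd).Nodup) :
    (L.length + 1) * Nat.card ↥(Cth hp (AddEquiv.refl (Fin l → ℤ)) w) ≤ Nat.card M.Group := by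
  classical
  have hWf := finite_W hp M.toCoxeterSystem
  set T := W :: L.map Prod.snd with hT
  have key := walk_all hp M.toCoxeterSystem hA hw h
  choose v hv using fun U : {U // U ∈ T.toFinset} => key U.1 (List.mem_toFinset.1 U.2)
  have hcard : Nat.card {U // U ∈ T.toFinset} = L.length + 1 := by
    rw [Nat.card_eq_fintype_card, Fintype.card_coe, List.toFinset_card_of_nodup hn, hT, List.length_cons,
      List.length_map]
  rw [← hcard, ← Nat.card_prod]
  refine Nat.card_le_card_of_injective (fun x => v x.1 * x.2.1) ?_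
  rintro ⟨U, c⟩ ⟨U', c'⟩ hx
  have hx' : v U * c.1 = v U' * c'.1 := hx
  have hcw : ∀ c : ↥(Cth hp (AddEquiv.refl (Fin l → ℤ)) w), ∀ (v : M.Group) x,
      rep M.toCoxeterSystem hp.isCartan (v * c.1 * w * (v * c.1)⁻¹) x =
        rep M.toCoxeterSystem hp.isCartan (v * w * v⁻¹) x := by
    intro c v x
    have e : v * c.1 * w * (v * c.1)⁻¹ = v * (c.1 * w) * c.1⁻¹ * v⁻¹ := by group
    rw [e]
    simp only [rep_mul_apply]
    rw [show rep M.toCoxeterSystem hp.isCartan c.1 (rep M.toCoxeterSystem hp.isCartan w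
        (rep M.toCoxeterSystem hp.isCartan c.1⁻¹ (rep M.toCoxeterSystem hp.isCartan v⁻¹ x))) =
        rep M.toCoxeterSystem hp.isCartan w (rep M.toCoxeterSystem hp.isCartan c.1
        (rep M.toCoxeterSystem hp.isCartan c.1⁻¹ (rep M.toCoxeterSystem hp.isCartan v⁻¹ x))) from c.2 _,
      rep_apply_inv]
  have hU : U = U' := by
    apply Subtype.ext
    funext j
    rw [← hv U j, ← hv U' j, ← hcw c (v U), ← hcw c' (v U'), hx']
  subst hU
  have hc : c = c' := Subtype.ext (mul_left_cancel hx')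
  rw [hc]

end

end Cfsg.Agent.H322.XR
end
end
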